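import Cfsg.Agent.ClassSize.FourSizes.Basic
import Cfsg.Agent.SolvStruct.ClassSizesNilpotent
import Cfsg.Agent.S4037
import Cfsg.Agent.Components.Local
import Cfsg.Agent.Components.Signalizer.Basic

/-!
Groups whose class sizes are `1, m, m * n` with coprime `m, n > 1`: first properties.
-/

set_option autoImplicit false
set_option linter.unusedSectionVars false
set_option linter.style.haveILetI false

namespace Cfsg.Lib.CoprimeMultiple

open Subgroup Cfsg.Lib.ClassSize Cfsg.Lib.FourSizes

universe u

variable {G : Type u} [Group G] [Finite G]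

/-- The class sizes are `1, m, m * n` with coprime `m, n > 1`. -/
structure Sizes (G : Type u) [Group G] (m n : ℕ) : Prop where
  m_lt : 1 < m
  n_lt : 1 < n
  cop : m.Coprime n
  cases : ∀ x : G, cs x = 1 ∨ cs x = m ∨ cs x = m * n
  exm : ∃ x : G, cs x = m
  exmn : ∃ x : G, cs x = m * n

theorem pel_of_zpowers {p : ℕ} (hp : p.Prime) {a b : G} (ha : PEl p a) (hb : b ∈ zpowers a) :
    PEl p b := by
  obtain ⟨k, hk⟩ := ha
  obtain ⟨j, -, hj⟩ := (Nat.dvd_prime_pow hp).mp (hk ▸ orderOf_dvd_of_mem_zpowers hb)
  exact ⟨j, hj⟩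

theorem commute_of_mem_center {z g : G} (hz : z ∈ center G) : Commute g z :=
  Subgroup.mem_center_iff.mp hz g

theorem center_le_cent (a : G) : center G ≤ centralizer ({a} : Set G) := fun _ hz =>
  mem_cent.mpr (commute_of_mem_center hz).symm

theorem self_mem_cent (a : G) : a ∈ centralizer ({a} : Set G) := mem_cent.mpr (Commute.refl a)

theorem cent_eq_of_le_of_cs_le {H : Subgroup G} {a : G} (h : H ≤ centralizer ({a} : Set G))
    (hi : H.index ≤ cs a) : H = centralizer ({a} : Set G) := by
  refine eq_of_le_of_card_ge h ?_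
  refine Nat.le_of_mul_le_mul_right ?_ (Nat.pos_of_ne_zero (index_ne_zero_of_finite (H := H)))
  rw [H.card_mul_index, ← (centralizer ({a} : Set G)).card_mul_index]
  exact Nat.mul_le_mul le_rfl hi

theorem conj_mem_center_iff {g x : G} : g * x * g⁻¹ ∈ center G ↔ x ∈ center G :=
  ⟨fun h => by simpa [mul_assoc] using (inferInstance : (center G).Normal).conj_mem _ h g⁻¹,
    fun h => (inferInstance : (center G).Normal).conj_mem _ h g⟩

namespace Sizes

variable {m n : ℕ} (hS : Sizes G m n)
include hS

theorem m_pos : 0 < m := zero_lt_one.trans hS.m_lt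

theorem n_pos : 0 < n := zero_lt_one.trans hS.n_lt

theorem mn_pos : 0 < m * n := Nat.mul_pos hS.m_pos hS.n_pos

theorem m_lt_mn : m < m * n := lt_mul_of_one_lt_right hS.m_pos hS.n_lt

theorem cs_cases {x : G} (hx : x ∉ center G) : cs x = m ∨ cs x = m * n :=
  (hS.cases x).resolve_left fun h => hx (cs_eq_one_iff.mp h)

theorem not_center_of_m {x : G} (hx : cs x = m) : x ∉ center G := fun h => by
  have := cs_eq_one_iff.mpr h
  have := hS.m_lt
  omega

theorem not_center_of_mn {x : G} (hx : cs x = m * n) : x ∉ center G := fun h => by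
  have := cs_eq_one_iff.mpr h
  have := hS.m_lt
  have := hS.m_lt_mn
  omega

theorem cs_le (x : G) : cs x ≤ m * n := by
  have := hS.m_lt_mn
  have := hS.m_lt
  rcases hS.cases x with h | h | h <;> rw [h] <;> omega

theorem m_dvd {x : G} (hx : x ∉ center G) : m ∣ cs x := by
  rcases hS.cs_cases hx with h | h <;> rw [h]
  exact dvd_mul_right m n

theorem not_dvd_n {r : ℕ} (hr : r.Prime) (hrm : r ∣ m) : ¬ r ∣ n := fun h =>
  hr.ne_one (Nat.eq_one_of_dvd_coprimes hS.cop hrm h)

theorem not_dvd_m {q : ℕ} (hq : q.Prime) (hqn : q ∣ n) : ¬ q ∣ m := fun h =>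
  hS.not_dvd_n hq h hqn

/-- At a prime not dividing `n` all non-central class sizes agree. -/
theorem fact_cs {r : ℕ} (hrn : ¬ r ∣ n) {x : G} (hx : x ∉ center G) :
    (cs x).factorization r = m.factorization r := by
  rcases hS.cs_cases hx with h | h <;> rw [h]
  rw [Nat.factorization_mul hS.m_pos.ne' hS.n_pos.ne', Finsupp.add_apply,
    Nat.factorization_eq_zero_of_not_dvd hrn, add_zero]

theorem fact_cent {r : ℕ} (hrn : ¬ r ∣ n) {x y : G} (hx : x ∉ center G) (hy : y ∉ center G) :
    (Nat.card (centralizer ({x} : Set G))).factorization r =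
      (Nat.card (centralizer ({y} : Set G))).factorization r := by
  have e1 := fact_index (p := r) (centralizer ({x} : Set G))
  have e2 := fact_index (p := r) (centralizer ({y} : Set G))
  have h1 : (centralizer ({x} : Set G)).index.factorization r = m.factorization r := hS.fact_cs hrn hx
  have h2 : (centralizer ({y} : Set G)).index.factorization r = m.factorization r := hS.fact_cs hrn hy
  omega

/-- Some element of each prime dividing `m * n` is not central. -/
theorem exists_noncentral {r : ℕ} (hr : r.Prime) (hrd : r ∣ m * n) :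
    ∃ a : G, PEl r a ∧ a ∉ center G := by
  haveI := Fact.mk hr
  obtain ⟨x, hx⟩ := hS.exmn
  obtain ⟨R⟩ : Nonempty (Sylow r G) := inferInstance
  by_contra hcon
  push Not at hcon
  refine R.not_dvd_index (hrd.trans (hx ▸ index_dvd_of_le ?_))
  exact fun y hy => center_le_cent x (hcon y (pel_of_mem R.2 hy))

/-- Elements of prime power order for other primes are central. -/
theorem mem_center_of_not_dvd {s : ℕ} (hs : s.Prime) (hsd : ¬ s ∣ m * n) {g : G} (hg : PEl s g) :
    g ∈ center G := by
  haveI := Fact.mk hs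
  obtain ⟨P⟩ : Nonempty (Sylow s G) := inferInstance
  have hall : ∀ x : G, ¬ s ∣ cs x := fun x hd => by
    rcases hS.cases x with h | h | h <;> rw [h] at hd
    · exact hs.not_dvd_one hd
    · exact hsd (hd.mul_right n)
    · exact hsd hd
  have htop : centralizer ((P : Subgroup G) : Set G) = ⊤ := by
    by_contra hne
    obtain ⟨x, hx⟩ := Cfsg.Lib.SolvStruct.exists_not_mem_conj _ hne
    obtain ⟨R, hR⟩ := exists_sylow_le_cent (H := centralizer ({x} : Set G)) (hall x)
    obtain ⟨c, rfl⟩ := MulAction.exists_smul_eq G P R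
    refine hx c (mem_centralizer_iff.mpr fun y hy => ?_)
    have h1 : c * y * c⁻¹ ∈ centralizer ({x} : Set G) := hR ⟨y, hy, rfl⟩
    have := congrArg (fun t => c⁻¹ * t * c) (mem_cent.mp h1).eq
    simpa [mul_assoc] using this
  obtain ⟨c, hc⟩ := exists_conj_mem hs P.not_dvd_index hg
  exact conj_mem_center_iff.mp (Subgroup.mem_center_iff.mpr fun y =>
    (mem_centralizer_iff.mp (htop.ge (mem_top y)) _ hc).symm : c * g * c⁻¹ ∈ center G)

theorem dvd_or_dvd {s : ℕ} (hs : s.Prime) {g : G} (hg : PEl s g) (hgc : g ∉ center G) :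
    s ∣ m ∨ s ∣ n :=
  hs.dvd_mul.mp (Classical.by_contradiction fun h => hgc (hS.mem_center_of_not_dvd hs h hg))

/-- The `r`-part of a non-central centraliser exceeds that of the centre. -/
theorem center_fact_lt {r : ℕ} (hr : r.Prime) (hrm : r ∣ m) {x : G} (hx : x ∉ center G) :
    (Nat.card (center G)).factorization r <
      (Nat.card (centralizer ({x} : Set G))).factorization r := by
  haveI := Fact.mk hr
  obtain ⟨a, ha, hac⟩ := hS.exists_noncentral hr (hrm.mul_right n)
  rw [hS.fact_cent (hS.not_dvd_n hr hrm) hx hac]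
  exact fact_lt (center_le_cent a) (self_mem_cent a) hac ha fun z hz => commute_of_mem_center hz

theorem exists_in_cent {r : ℕ} (hr : r.Prime) (hrm : r ∣ m) {x : G} (hx : x ∉ center G) :
    ∃ b ∈ centralizer ({x} : Set G), b ∉ center G ∧ PEl r b := by
  haveI := Fact.mk hr
  exact exists_pel (hS.center_fact_lt hr hrm hx)

/-- The centraliser of a commuting element of coprime order contains that of an element of
maximal class size. -/
theorem cent_le_of_mn {t : ℕ} {a b : G} (ha : cs a = m * n) (hpa : PEl t a)
    (hb : b ∈ centralizer ({a} : Set G)) (hbt : (orderOf b).Coprime t) :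
    centralizer ({a} : Set G) ≤ centralizer ({b} : Set G) := by
  have hcop : (orderOf a).Coprime (orderOf b) := by
    obtain ⟨k, hk⟩ := hpa
    rw [hk]
    exact (hbt.pow_right k).symm
  have h := cent_mul_of_coprime (mem_cent.mp hb).symm hcop
  have h1 : (centralizer ({a} : Set G) ⊓ centralizer ({b} : Set G)).index ≤ cs a := by
    rw [← h, ha]
    exact hS.cs_le (a * b)
  have h2 := cent_eq_of_le_of_cs_le inf_le_left h1
  rw [← h2]
  exact inf_le_right

/-- An element centralised by the centraliser of an element of class size `m`. -/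
theorem cent_eq_of_m {a b : G} (ha : cs a = m)
    (h : centralizer ({a} : Set G) ≤ centralizer ({b} : Set G)) (hb : b ∉ center G) :
    centralizer ({a} : Set G) = centralizer ({b} : Set G) := by
  refine cent_eq_of_le_of_cs_le h ?_
  show cs a ≤ cs b
  rw [ha]
  exact Nat.le_of_dvd (Nat.pos_of_ne_zero index_ne_zero_of_finite) (hS.m_dvd hb)

theorem cs_eq_m_of_le {a b : G} (ha : cs a = m)
    (h : centralizer ({a} : Set G) ≤ centralizer ({b} : Set G)) (hb : b ∉ center G) : cs b = m := by
  show (centralizer ({b} : Set G)).index = m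
  rw [← hS.cent_eq_of_m ha h hb]
  exact ha

/-- Some element of prime power order has class size `m`. -/
theorem exists_primary_m : ∃ q : ℕ, q.Prime ∧ ∃ x : G, PEl q x ∧ cs x = m := by
  obtain ⟨g, hg⟩ := hS.exm
  by_contra hcon
  push Not at hcon
  refine hS.not_center_of_m hg (mem_of_parts fun r hr y hy hyr => ?_)
  by_contra hyc
  exact hcon r hr y hyr (hS.cs_eq_m_of_le hg (cent_le_of_mem_zpowers hy) hyc)

end Sizes

/-- Primary elements with classes of prime power size generate a solvable group together with a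
`p`-group complement. -/
theorem solvable_of_primary {p : ℕ} (hp : p.Prime)
    (h : ∀ s : ℕ, s.Prime → s ≠ p → ∀ g : G, PEl s g → ∃ k : ℕ, cs g = p ^ k) :
    Group.IsSolvable G := by
  classical
  haveI := Fact.mk hp
  obtain ⟨R, ⟨hRn, hsR⟩, hRmax⟩ := WellFounded.has_min (wellFounded_gt (α := Subgroup G))
    {N : Subgroup G | N.Normal ∧ Group.IsSolvable N} ⟨⊥, inferInstance, inferInstance⟩
  haveI := hRn
  haveI := hsR
  have hmem : ∀ s : ℕ, s.Prime → s ≠ p → ∀ g : G, PEl s g → g ∈ R := by
    intro s hs hsp g hg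
    obtain ⟨k, hk⟩ := h s hs hsp g hg
    have e : (ConjClasses.mk g).carrier.ncard = cs g := by
      show _ = (centralizer ({g} : Set G)).index
      rw [← Cfsg.Lib.Chars.card_isConj, ← Nat.card_coe_set_eq]
      exact Nat.card_congr (Equiv.subtypeEquivRight fun y =>
        ConjClasses.mem_carrier_iff_mk_eq.trans
          (ConjClasses.mk_eq_mk_iff_isConj.trans ⟨IsConj.symm, IsConj.symm⟩))
    have hsol := Cfsg.Agent.S4037.result g hp k (e.trans hk)
    set N := normalClosure ({g} : Set G) with hN
    have hsup : Group.IsSolvable (R ⊔ N : Subgroup G) :=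
      Cfsg.Lib.Signalizer.isSolvable_sup le_normalizer_of_normal hsR hsol
    have he : R = R ⊔ N := (eq_or_lt_of_le le_sup_left).resolve_right fun hlt =>
      hRmax _ ⟨inferInstance, hsup⟩ hlt
    rw [he]
    exact mem_sup_right (subset_normalClosure rfl)
  haveI : Group.IsSolvable (G ⧸ R) := by
    have hq : IsPGroup p (G ⧸ R) := IsPGroup.of_card (n := R.index.primeFactorsList.length)
      (R.index_eq_card ▸ Nat.eq_prime_pow_of_unique_prime_dvd index_ne_zero_of_finite
        fun {s} hs hsd => by
          by_contra hsp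
          haveI := Fact.mk hs
          obtain ⟨S⟩ : Nonempty (Sylow s G) := inferInstance
          exact S.not_dvd_index (hsd.trans (index_dvd_of_le fun y hy =>
            hmem s hs hsp y (pel_of_mem S.2 hy))))
    haveI := hq.isNilpotent
    infer_instance
  exact Group.isSolvable_of_ker_le_range R.subtype (QuotientGroup.mk' R)
    (by rw [QuotientGroup.ker_mk', range_subtype])

end Cfsg.Lib.CoprimeMultiple
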