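import Cfsg.Agent.ClassSize.CoprimeMultiple.Basic
import Cfsg.Agent.Components.PxQ
import Cfsg.Agent.Coprime.Fitting

/-!
Abelian `p`-complements of solvable groups centralising `O_p(G)`.
-/

set_option autoImplicit false
set_option linter.unusedSectionVars false
set_option linter.style.haveILetI false

namespace Cfsg.Lib.CoprimeMultiple

open Subgroup Cfsg.Lib.ClassSize Cfsg.Lib.FourSizes

universe u

variable {G : Type u} [Group G] [Finite G]

/-- A `p'`-element centralises `O_p(G)` as soon as it centralises the part of it fixed by a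
commuting `p`-element. -/
theorem commute_core_of_pxq {p : ℕ} [Fact p.Prime] {t f : G} (ht : (orderOf t).Coprime p)
    (hf : PEl p f) (htf : Commute t f) (h : ∀ o ∈ pCore p G, Commute o f → Commute o t) :
    ∀ o ∈ pCore p G, Commute o t := by
  have hxP : t ∈ centralizer (zpowers f : Set G) := mem_centralizer_iff.mpr fun y hy => by
    obtain ⟨i, rfl⟩ := mem_zpowers_iff.mp hy
    exact (htf.zpow_right i).symm.eq
  have hle := Cfsg.Lib.Components.pxq_element ht (pel_isPGroup hf) hxP (pCore p G)
    (Cfsg.Lib.Components.isPGroup_pCore p) le_normalizer_of_normal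
    (le_normalizer_of_normal (K := ⊤) (mem_top t))
    (fun o ho => mem_cent.mpr (h o ho.1 ((mem_centralizer_iff.mp ho.2 f (mem_zpowers f)).symm)))
  exact fun o ho => mem_cent.mp (hle ho)

/-- An abelian `p`-complement centralising `O_p(G)` in a solvable group is normal. -/
theorem normal_of_hall [Group.IsSolvable G] {p : ℕ} [Fact p.Prime] {T : Subgroup G}
    (hTc : ∀ x ∈ T, ∀ y ∈ T, Commute x y) (hTp : (Nat.card T).Coprime p)
    (hTi : ∀ s : ℕ, s.Prime → s ≠ p → ¬ s ∣ T.index)
    (hO : ∀ t ∈ T, ∀ o ∈ pCore p G, Commute o t) : T.Normal := by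
  have hcore : ∀ s : ℕ, s.Prime → s ≠ p → pCore s G ≤ T := by
    intro s hs hsp
    haveI := Fact.mk hs
    obtain ⟨S, hS⟩ := exists_sylow_le_cent (p := s) (hTi s hs hsp)
    exact (Cfsg.Lib.Coprime.pCore_le_sylow s S).trans hS
  have hTF : T ≤ fittingSubgroup G := fun t ht => by
    refine Cfsg.Lib.Coprime.centralizer_fitting_le ?_
    refine mem_centralizer_iff.mpr fun y hy => ?_
    have hle : fittingSubgroup G ≤ centralizer ({t} : Set G) := by
      rw [Cfsg.Lib.Components.fitting_eq_iSup_pCore]
      refine iSup_le fun s y hy => mem_cent.mpr ?_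
      by_cases hsp : s.1 = p
      · exact hO t ht y (hsp ▸ hy)
      · exact hTc y (hcore s.1 s.2 hsp hy) t ht
    exact (mem_cent.mp (hle hy)).eq
  refine ⟨fun t ht g => mem_of_parts fun s hs y hy hys => ?_⟩
  haveI := Fact.mk hs
  have he : g⁻¹ * y * g ∈ zpowers t := by
    obtain ⟨i, rfl⟩ := mem_zpowers_iff.mp hy
    rw [conj_zpow]
    simp [mul_assoc]
  have hys' : PEl s (g⁻¹ * y * g) := by simpa using pel_conj hys g⁻¹
  have hT' : g⁻¹ * y * g ∈ T := zpowers_le.mpr ht he
  by_cases hsp : s = p
  · subst hsp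
    have h1 : g⁻¹ * y * g = 1 := by
      obtain ⟨k, hk⟩ := hys'
      refine orderOf_eq_one_iff.mp (Nat.eq_one_of_dvd_coprimes (hTp.pow_right k)
        (Subgroup.orderOf_dvd_natCard T hT') ?_)
      rw [hk]
    have : y = 1 := by
      have h2 : y = g * (g⁻¹ * y * g) * g⁻¹ := by group
      rw [h2, h1, mul_one, mul_inv_cancel]
    rw [this]
    exact one_mem T
  · refine hcore s hs hsp ?_
    have h1 := (inferInstance : (pCore s G).Normal).conj_mem _
      (mem_pCore_of_fitting hys' (hTF hT')) g
    simpa [mul_assoc] using h1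

end Cfsg.Lib.CoprimeMultiple
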