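import Cfsg.Agent.ClassSize.CoprimeMultiple.Multi
import Cfsg.Agent.ClassSize.CoprimeMultiple.HallComplement
import Cfsg.Agent.HallHigman.Drop
import Cfsg.Agent.Coprime.Hall

/-!
Class sizes `1, m, m * n`: it is impossible that no element of class size `m` has order a power of
a prime dividing `m`.
-/

set_option autoImplicit false
set_option linter.unusedSectionVars false
set_option linter.style.haveILetI false

namespace Cfsg.Lib.CoprimeMultiple

open Subgroup Cfsg.Lib.ClassSize Cfsg.Lib.FourSizes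
open scoped commutatorElement

universe u

variable {G : Type u} [Group G] [Finite G]

theorem commute_mem_of_parts' {y w : G}
    (h : ∀ r : ℕ, r.Prime → ∀ g ∈ zpowers y, PEl r g → Commute g w) : Commute y w :=
  mem_cent.mp (mem_of_parts fun r hr g hg hgr => mem_cent.mpr (h r hr g hg hgr))

/-- No element of class size `m` has order a power of a prime dividing `m`. -/
structure NoM (G : Type u) [Group G] (m n : ℕ) : Prop where
  sizes : Sizes G m n
  none : ∀ r : ℕ, r.Prime → r ∣ m → ∀ a : G, PEl r a → cs a ≠ m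

namespace NoM

variable {m n : ℕ} (hN : NoM G m n)
include hN

theorem cs_mn {r : ℕ} (hr : r.Prime) (hrm : r ∣ m) {a : G} (ha : PEl r a) (hac : a ∉ center G) :
    cs a = m * n :=
  (hN.sizes.cs_cases hac).resolve_left (hN.none r hr hrm a ha)

theorem exists_x : ∃ q : ℕ, q.Prime ∧ ¬ q ∣ m ∧ ∃ x : G, PEl q x ∧ cs x = m := by
  obtain ⟨q, hq, x, hx, hxm⟩ := hN.sizes.exists_primary_m
  exact ⟨q, hq, fun h => hN.none q hq h x hx hxm, x, hx, hxm⟩

/-- `C(a) ≤ C(x)` for commuting `a` (prime dividing `m`) and a `q`-element `x`, `q ∤ m`. -/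
theorem cent_le {r q : ℕ} (hr : r.Prime) (hrm : r ∣ m) (hq : q.Prime) (hqm : ¬ q ∣ m) {a x : G}
    (ha : PEl r a) (hac : a ∉ center G) (hx : PEl q x) (hxa : Commute x a) :
    centralizer ({a} : Set G) ≤ centralizer ({x} : Set G) :=
  hN.sizes.cent_le_of_mn (hN.cs_mn hr hrm ha hac) ha (mem_cent.mpr hxa)
    (pel_coprime_prime hq hr (fun e => hqm (e ▸ hrm)) hx)

/-- `m` is a prime power. -/
theorem single {r s : ℕ} (hr : r.Prime) (hrm : r ∣ m) (hs : s.Prime) (hsm : s ∣ m) : r = s := by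
  by_contra hne
  have hS := hN.sizes
  obtain ⟨q, hq, hqm, x, hx, hxm⟩ := hN.exists_x
  obtain ⟨a, haH, hac, ha⟩ := hS.exists_in_cent hr hrm (hS.not_center_of_m hxm)
  obtain ⟨d, hdK, hdc, hd⟩ := hS.exists_in_cent hs hsm hac
  have hamn := hN.cs_mn hr hrm ha hac
  have hdmn := hN.cs_mn hs hsm hd hdc
  have had : centralizer ({a} : Set G) = centralizer ({d} : Set G) :=
    cent_eq_of_le_of_cs_le
      (hS.cent_le_of_mn hamn ha hdK (pel_coprime_prime hs hr (Ne.symm hne) hd))
      (by show cs a ≤ cs d; rw [hamn, hdmn])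
  have hKc : ∀ y ∈ centralizer ({a} : Set G), ∀ z ∈ centralizer ({a} : Set G), Commute y z := by
    intro y hy z hz
    refine mem_cent.mp (mem_of_parts fun t ht w hw hwt => ?_)
    have hwK : w ∈ centralizer ({a} : Set G) := zpowers_le.mpr hy hw
    refine mem_cent.mpr (Commute.symm ?_)
    by_cases htr : t = r
    · exact mem_cent.mp (hS.cent_le_of_mn hdmn hd (had ▸ hwK)
        (pel_coprime_prime ht hs (htr ▸ hne) hwt) (had ▸ hz))
    · exact mem_cent.mp (hS.cent_le_of_mn hamn ha hwK (pel_coprime_prime ht hr htr hwt) hz)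
  have hK : ∀ t : ℕ, t.Prime → t ∣ m → ∀ v ∈ centralizer ({a} : Set G), PEl t v → v ∉ center G →
      centralizer ({v} : Set G) = centralizer ({a} : Set G) := fun t ht htm v hv hvt hvc =>
    (cent_eq_of_le_of_cs_le (fun y hy => mem_cent.mpr (hKc y hy v hv))
      (by show cs a ≤ cs v; rw [hamn, hN.cs_mn ht htm hvt hvc])).symm
  exact hS.multi_false hr hs hne hrm hsm hKc (hK r hr hrm) (hK s hs hsm) (self_mem_cent a) ha hac

/-- Every `p`-element has non-central `q`-elements in its centraliser, `q ∤ m`. -/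
theorem exists_q {p q : ℕ} (hp : p.Prime) (hpm : p ∣ m) (hq : q.Prime) (hqm : ¬ q ∣ m) {x : G}
    (hx : PEl q x) (hxm : cs x = m) {f : G} (hf : PEl p f) (hfc : f ∉ center G) :
    ∃ u ∈ centralizer ({f} : Set G), u ∉ center G ∧ PEl q u := by
  haveI := Fact.mk hq
  have hS := hN.sizes
  obtain ⟨a, haH, hac, ha⟩ := hS.exists_in_cent hp hpm (hS.not_center_of_m hxm)
  refine exists_pel ?_
  have h1 := fact_lt (p := q) (center_le_cent a) (mem_cent_comm.mp haH)
    (hS.not_center_of_m hxm) hx fun z hz => commute_of_mem_center hz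
  have e1 := fact_index (p := q) (centralizer ({a} : Set G))
  have e2 := fact_index (p := q) (centralizer ({f} : Set G))
  rw [show (centralizer ({a} : Set G)).index = m * n from hN.cs_mn hp hpm ha hac] at e1
  rw [show (centralizer ({f} : Set G)).index = m * n from hN.cs_mn hp hpm hf hfc] at e2
  omega

/-- Inside a centraliser of class size `m` the `p'`-elements centralising one non-central
`p`-element are conjugate to ones centralising any other. -/
theorem transport {p : ℕ} (hp : p.Prime) (hpm : p ∣ m) {q : ℕ} (hq : q.Prime) (hqm : ¬ q ∣ m)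
    {x : G} (hx : PEl q x) (hxm : cs x = m) {h₁ h₂ : G} (h1H : h₁ ∈ centralizer ({x} : Set G))
    (h1 : PEl p h₁) (h1c : h₁ ∉ center G) (h2H : h₂ ∈ centralizer ({x} : Set G)) (h2 : PEl p h₂) :
    ∃ d : G, ∀ y ∈ centralizer ({h₁} : Set G), (orderOf y).Coprime p →
      d * y * d⁻¹ ∈ centralizer ({h₂} : Set G) := by
  haveI := Fact.mk hp
  have hS := hN.sizes
  set H := centralizer ({x} : Set G) with hH
  have hle : centralizer ({h₁} : Set G) ≤ H :=
    hN.cent_le hp hpm hq hqm h1 h1c hx (mem_cent.mp h1H).symm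
  have hni : ¬ p ∣ ((centralizer ({h₁} : Set G)).subgroupOf H).index := by
    show ¬ p ∣ (centralizer ({h₁} : Set G)).relIndex H
    intro hd
    have e1 := hS.fact_cent (hS.not_dvd_n hp hpm) h1c (hS.not_center_of_m hxm)
    have e2 := relIndex_mul_relIndex ⊥ _ _ bot_le hle
    rw [relIndex_bot_left, relIndex_bot_left] at e2
    rw [← hH, ← e2, Nat.factorization_mul Nat.card_pos.ne' (fun h0 => by
      rw [h0, mul_zero] at e2; exact Nat.card_pos.ne e2), Finsupp.add_apply] at e1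
    have := hp.factorization_pos_of_dvd (fun h0 => by
      rw [h0, mul_zero] at e2; exact Nat.card_pos.ne e2) hd
    omega
  obtain ⟨⟨d, hdH⟩, hd⟩ := exists_conj_mem hp hni (g := (⟨h₂, h2H⟩ : H)) (by
    obtain ⟨k, hk⟩ := h2
    exact ⟨k, by rwa [Subgroup.orderOf_mk]⟩)
  refine ⟨d⁻¹, fun y hy hyp => ?_⟩
  have h3 : Commute (d * h₂ * d⁻¹) y :=
    mem_cent.mp (hS.cent_le_of_mn (hN.cs_mn hp hpm h1 h1c) h1 hy hyp (mem_subgroupOf.mp hd))
  have h4 := h3.symm.map (MulAut.conj d⁻¹).toMonoidHom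
  simp only [MulEquiv.coe_toMonoidHom, MulAut.conj_apply] at h4
  simpa [mul_assoc] using mem_cent.mpr h4

/-- All `p'`-elements of prime power order have classes of size `1` or `m`. -/
theorem no_L {p : ℕ} (hp : p.Prime) (hpm : p ∣ m) (hone : ∀ s : ℕ, s.Prime → s ∣ m → s = p)
    {t : ℕ} (ht : t.Prime) (htp : t ≠ p) {y : G} (hy : PEl t y) : cs y ≠ m * n := by
  intro hymn
  haveI := Fact.mk hp
  have hS := hN.sizes
  have htm : ¬ t ∣ m := fun h => htp (hone t ht h)
  obtain ⟨q, hq, hqm, x, hx, hxm⟩ := hN.exists_x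
  set H := centralizer ({x} : Set G) with hH
  -- every `p`-element is centralised by a primary element of class size `m * n` with its centraliser
  have hpair : ∀ e : G, PEl p e → e ∉ center G → ∃ s : ℕ, s.Prime ∧ ¬ s ∣ m ∧ ∃ y' : G, PEl s y' ∧
      cs y' = m * n ∧ centralizer ({y'} : Set G) = centralizer ({e} : Set G) := by
    intro e he hec
    have hemn := hN.cs_mn hp hpm he hec
    have heq : ∀ {s : ℕ} {y' : G}, s.Prime → s ≠ p → PEl s y' → cs y' = m * n →
        y' ∈ centralizer ({e} : Set G) →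
        centralizer ({y'} : Set G) = centralizer ({e} : Set G) := fun hs hsp hy' hy'mn hmem =>
      (cent_eq_of_le_of_cs_le (hS.cent_le_of_mn hemn he hmem (pel_coprime_prime hs hp hsp hy'))
        (by show cs e ≤ _; rw [hy'mn, hemn])).symm
    obtain ⟨u, hue, huc, huq⟩ := hN.exists_q hp hpm hq hqm hx hxm he hec
    have hqp : q ≠ p := fun e' => hqm (e' ▸ hpm)
    rcases hS.cs_cases huc with hum | humn
    · obtain ⟨c, hc⟩ := exists_conj_mem ht (H := centralizer ({u} : Set G))
        (show ¬ t ∣ cs u by rw [hum]; exact htm) hy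
      set y₁ := c * y * c⁻¹
      have hy₁ : cs y₁ = m * n := by rw [cs_conj, hymn]
      have hy₁c : y₁ ∉ center G := hS.not_center_of_mn hy₁
      obtain ⟨f, hfy, hfc, hf⟩ := hS.exists_in_cent hp hpm hy₁c
      have hfy' : y₁ ∈ centralizer ({f} : Set G) := mem_cent_comm.mp hfy
      have hfeq : centralizer ({y₁} : Set G) = centralizer ({f} : Set G) :=
        (cent_eq_of_le_of_cs_le (hS.cent_le_of_mn (hN.cs_mn hp hpm hf hfc) hf hfy'
          (pel_coprime_prime ht hp htp (pel_conj hy c)))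
          (by show cs f ≤ _; rw [hy₁, hN.cs_mn hp hpm hf hfc])).symm
      have hfH : f ∈ centralizer ({u} : Set G) := by
        refine mem_cent_comm.mp ?_
        rw [← hfeq]
        exact mem_cent_comm.mp hc
      obtain ⟨d, hd⟩ := hN.transport hp hpm hq hqm huq hum hfH hf hfc (mem_cent_comm.mp hue) he
      have h1 := hd y₁ hfy' (pel_coprime_prime ht hp htp (pel_conj hy c))
      have h2 : cs (d * y₁ * d⁻¹) = m * n := by rw [cs_conj, hy₁]
      exact ⟨t, ht, htm, _, pel_conj (pel_conj hy c) d, h2, heq ht htp (pel_conj (pel_conj hy c) d) h2 h1⟩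
    · exact ⟨q, hq, hqm, u, huq, humn, heq hq hqp huq humn hue⟩
  have hHne : H ≠ ⊤ := fun h => by
    have h1 : H.index = m := hxm
    rw [h, index_top] at h1
    exact hS.m_lt.ne h1
  obtain ⟨z, hz₀⟩ := Cfsg.Lib.SolvStruct.exists_not_mem_conj H hHne
  have hz : ∀ c : G, c * z * c⁻¹ ∉ H := fun c => by simpa using hz₀ c⁻¹
  have hzc : z ∉ center G := fun h => hz 1 (by simpa using center_le_cent x h)
  obtain ⟨e, hez, hec, he⟩ := hS.exists_in_cent hp hpm hzc
  obtain ⟨s, hs, hsm, y', hy', hy'mn, hy'e⟩ := hpair e he hec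
  obtain ⟨c, hc⟩ := exists_conj_mem hs (H := H) (show ¬ s ∣ cs x by rw [hxm]; exact hsm) hy'
  have hxe : x ∈ centralizer ({c * e * c⁻¹} : Set G) := by
    rw [cent_conj, ← hy'e, ← cent_conj]
    exact mem_cent_comm.mp hc
  have hle : centralizer ({c * e * c⁻¹} : Set G) ≤ H :=
    hN.cent_le hp hpm hq hqm (pel_conj he c) (fun h => hec (conj_mem_center_iff.mp h)) hx
      (mem_cent.mp hxe)
  exact hz c (hle (mem_cent.mpr ((mem_cent.mp hez).symm.map (MulAut.conj c).toMonoidHom)))

/-- The hypothesis is contradictory. -/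
theorem false : False := by
  classical
  have hS := hN.sizes
  obtain ⟨p, hp, hpm⟩ := Nat.exists_prime_and_dvd hS.m_lt.ne'
  haveI := Fact.mk hp
  have hone : ∀ s : ℕ, s.Prime → s ∣ m → s = p := fun s hs hsm => hN.single hs hsm hp hpm
  obtain ⟨a₀, hma⟩ : ∃ a, m = p ^ a := ⟨_, Nat.eq_prime_pow_of_unique_prime_dvd hS.m_pos.ne'
    fun {s} hs hsm => hone s hs hsm⟩
  have hcl : ∀ s : ℕ, s.Prime → s ≠ p → ∀ g : G, PEl s g → cs g = 1 ∨ cs g = m := fun s hs hsp g hg =>
    (hS.cases g).elim Or.inl fun h => h.elim Or.inr fun h => absurd h (hN.no_L hp hpm hone hs hsp hg)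
  haveI hsol : Group.IsSolvable G := solvable_of_primary hp fun s hs hsp g hg => by
    rcases hcl s hs hsp g hg with h | h
    · exact ⟨0, by rw [h, pow_zero]⟩
    · exact ⟨a₀, by rw [h, hma]⟩
  -- primary `p'`-elements commute modulo `O_p(G)`
  set O := pCore p G with hO
  set π := QuotientGroup.mk' O
  haveI : Group.IsSolvable (G ⧸ O) := inferInstance
  have hfit : ∀ s : ℕ, s.Prime → s ≠ p → ∀ u : G, PEl s u →
      π u ∈ centralizer (fittingSubgroup (G ⧸ O) : Set (G ⧸ O)) := by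
    intro s hs hsp u hu
    refine mem_centralizer_iff.mpr fun y hy => ?_
    have hle : fittingSubgroup (G ⧸ O) ≤ centralizer ({π u} : Set (G ⧸ O)) := by
      rw [Cfsg.Lib.Components.fitting_eq_iSup_pCore]
      refine iSup_le fun t y hy => ?_
      haveI := Fact.mk t.2
      by_cases htp : t.1 = p
      · rw [htp, Cfsg.Lib.HallHigman.pCore_quotient_pCore, mem_bot] at hy
        exact hy ▸ one_mem _
      · obtain ⟨S, hS'⟩ := exists_sylow_le_cent (p := t.1) (H := centralizer ({u} : Set G)) (by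
          intro hd
          rcases hcl s hs hsp u hu with h | h
          · rw [show (centralizer ({u} : Set G)).index = 1 from h] at hd
            exact t.2.not_dvd_one hd
          · rw [show (centralizer ({u} : Set G)).index = m from h] at hd
            exact htp (hone _ t.2 hd))
        have h1 := Cfsg.Lib.Coprime.pCore_le_sylow t.1
          (S.mapSurjective (QuotientGroup.mk'_surjective O)) hy
        obtain ⟨w, hw, rfl⟩ := h1
        exact mem_cent.mpr ((mem_cent.mp (hS' hw)).map π)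
    exact (mem_cent.mp (hle hy)).eq
  have hcomm : ∀ s : ℕ, s.Prime → s ≠ p → ∀ t : ℕ, t.Prime → t ≠ p → ∀ u v : G, PEl s u → PEl t v →
      Commute (π u) (π v) := fun s hs hsp t ht htp u v hu hv =>
    ((mem_centralizer_iff.mp (hfit s hs hsp u hu) _
      (Cfsg.Lib.Coprime.centralizer_fitting_le (hfit t ht htp v hv)))).symm
  -- an abelian `p`-complement
  obtain ⟨T, hT1, hT2⟩ := Cfsg.Lib.Coprime.exists_piHall (G := G) {s | s ≠ p}
  have hTp : (Nat.card T).Coprime p :=
    ((hp.coprime_iff_not_dvd).mpr fun h => hT1 p hp h rfl).symm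
  have hTi : ∀ s : ℕ, s.Prime → s ≠ p → ¬ s ∣ T.index := fun s hs hsp => hT2 s hs hsp
  have hTel : ∀ s : ℕ, s.Prime → ∀ g ∈ T, PEl s g → s ≠ p ∨ g = 1 := by
    intro s hs g hg hgs
    by_cases hsp : s = p
    · right
      obtain ⟨k, hk⟩ := hgs
      refine orderOf_eq_one_iff.mp (Nat.eq_one_of_dvd_coprimes (hTp.pow_right k)
        (Subgroup.orderOf_dvd_natCard T hg) ?_)
      rw [hk, hsp]
    · exact Or.inl hsp
  have hbot : ∀ y ∈ T, y ∈ O → y = 1 := fun y hyT hyO => by
    obtain ⟨k, hk⟩ := pel_of_mem (Cfsg.Lib.Components.isPGroup_pCore p) hyO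
    refine orderOf_eq_one_iff.mp (Nat.eq_one_of_dvd_coprimes (hTp.pow_right k)
      (Subgroup.orderOf_dvd_natCard T hyT) ?_)
    rw [hk]
  have hTc : ∀ y ∈ T, ∀ z ∈ T, Commute y z := by
    intro y hy z hz
    refine commute_mem_of_parts' fun s hs g hg hgs => (commute_mem_of_parts' fun t ht h hh hht => ?_).symm
    have hgT : g ∈ T := zpowers_le.mpr hy hg
    have hhT : h ∈ T := zpowers_le.mpr hz hh
    rcases hTel s hs g hgT hgs with hsp | rfl
    · rcases hTel t ht h hhT hht with htp | rfl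
      · refine commutatorElement_eq_one_iff_commute.mp (hbot _ ?_ ?_)
        · rw [commutatorElement_def]
          exact mul_mem (mul_mem (mul_mem hhT hgT) (inv_mem hhT)) (inv_mem hgT)
        · rw [← QuotientGroup.eq_one_iff (N := O), ← QuotientGroup.mk'_apply, map_commutatorElement,
            commutatorElement_eq_one_iff_mul_comm]
          exact (hcomm t ht htp s hs hsp h g hht hgs).eq
      · exact Commute.one_left g
    · exact Commute.one_right h
  have hTO : ∀ t ∈ T, ∀ o ∈ O, Commute o t := by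
    intro t ht o ho
    refine (commute_mem_of_parts' fun s hs g hg hgs => ?_).symm
    have hgT : g ∈ T := zpowers_le.mpr ht hg
    by_cases hgc : g ∈ center G
    · exact (commute_of_mem_center hgc).symm
    rcases hTel s hs g hgT hgs with hsp | rfl
    · obtain ⟨f, hfg, hfc, hf⟩ := hS.exists_in_cent hp hpm hgc
      exact (commute_core_of_pxq (pel_coprime_prime hs hp hsp hgs) hf (mem_cent.mp hfg).symm
        (fun o' _ hof => mem_cent.mp
          (hN.cent_le hp hpm hs (fun h => hsp (hone s hs h)) hf hfc hgs (mem_cent.mp hfg).symm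
            (mem_cent.mpr hof))) o ho).symm
    · exact Commute.one_left o
  haveI hTn : T.Normal := normal_of_hall hTc hTp hTi hTO
  -- a `p`-element central modulo the centre in a Sylow subgroup
  obtain ⟨P⟩ : Nonempty (Sylow p G) := inferInstance
  set ZP := (center G).subgroupOf (P : Subgroup G)
  haveI : Nontrivial ((P : Subgroup G) ⧸ ZP) := by
    obtain ⟨b, hb, hbc⟩ := hS.exists_noncentral hp (hpm.mul_right n)
    obtain ⟨c, hc⟩ := exists_conj_mem hp P.not_dvd_index hb
    refine ⟨⟨(⟨_, hc⟩ : (P : Subgroup G)), 1, fun h => hbc ?_⟩⟩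
    rw [QuotientGroup.eq_one_iff, mem_subgroupOf] at h
    exact conj_mem_center_iff.mp h
  haveI := (P.2.to_quotient ZP).center_nontrivial
  obtain ⟨⟨e', he'⟩, he'1⟩ := exists_ne (1 : Subgroup.center ((P : Subgroup G) ⧸ ZP))
  obtain ⟨⟨e, heP⟩, rfl⟩ := QuotientGroup.mk'_surjective ZP e'
  have hec : e ∉ center G := fun h => he'1 (Subtype.ext
    ((QuotientGroup.eq_one_iff (N := ZP) ⟨e, heP⟩).mpr (mem_subgroupOf.mpr h)))
  have hcen : ∀ g ∈ (P : Subgroup G), ∃ z ∈ center G, g * e * g⁻¹ = e * z := by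
    intro g hg
    refine ⟨e⁻¹ * (g * e * g⁻¹), ?_, by group⟩
    have h1 : (((⟨g, hg⟩ : (P : Subgroup G)) * ⟨e, heP⟩ * ⟨g, hg⟩⁻¹ : (P : Subgroup G)) :
        (P : Subgroup G) ⧸ ZP) = ((⟨e, heP⟩ : (P : Subgroup G)) : (P : Subgroup G) ⧸ ZP) := by
      rw [QuotientGroup.mk_mul, QuotientGroup.mk_mul, QuotientGroup.mk_inv]
      have hc' := Subgroup.mem_center_iff.mp he'
        ((⟨g, hg⟩ : (P : Subgroup G)) : (P : Subgroup G) ⧸ ZP)
      rw [QuotientGroup.mk'_apply] at hc'
      rw [hc']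
      exact mul_inv_cancel_right _ _
    exact mem_subgroupOf.mp (QuotientGroup.eq.mp h1.symm)
  have he : PEl p e := pel_of_mem P.2 heP
  have hemn := hN.cs_mn hp hpm he hec
  obtain ⟨q, hq, hqn⟩ := Nat.exists_prime_and_dvd hS.n_lt.ne'
  haveI := Fact.mk hq
  have hqm := hS.not_dvd_m hq hqn
  have hqp : q ≠ p := fun e' => hqm (e' ▸ hpm)
  obtain ⟨Sq, hSq⟩ := exists_sylow_le_cent (p := q) (hTi q hq hqp)
  -- non-central elements of `T` have class size `m`
  have hTm : ∀ t ∈ T, t ∉ center G → cs t = m := fun t ht htc =>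
    (hS.cs_cases htc).resolve_right fun h => Sq.not_dvd_index ((hqn.mul_left m).trans (h ▸
      index_dvd_of_le (fun y hy => mem_cent.mpr (hTc y (hSq hy) t ht))))
  have hcard : ∀ t ∈ T, t ∉ center G →
      Nat.card T * Nat.card ((P : Subgroup G) ⊓ centralizer ({t} : Set G) : Subgroup G) * m =
        Nat.card G := by
    intro t ht htc
    have hTC : T ≤ centralizer ({t} : Set G) := fun y hy => mem_cent.mpr (hTc y hy t ht)
    have hsup : T ⊔ (P : Subgroup G) = ⊤ := by
      refine index_eq_one.mp (Nat.eq_one_of_dvd_coprimes (?_ : T.index.Coprime (P : Subgroup G).index)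
        (index_dvd_of_le le_sup_left) (index_dvd_of_le le_sup_right))
      refine Nat.coprime_of_dvd fun s hs h1 h2 => ?_
      by_cases hsp : s = p
      · exact P.not_dvd_index (hsp ▸ h2)
      · exact hTi s hs hsp h1
    have heq : T ⊔ ((P : Subgroup G) ⊓ centralizer ({t} : Set G)) = centralizer ({t} : Set G) := by
      refine le_antisymm (sup_le hTC inf_le_right) fun c hc => ?_
      obtain ⟨τ, hτ, y, hy, rfl⟩ := Subgroup.mem_sup_of_normal_left.mp (hsup.ge (mem_top c))
      exact mul_mem_sup hτ ⟨hy, (Subgroup.mul_mem_cancel_left _ (hTC hτ)).mp hc⟩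
    have h1 := Cfsg.Lib.Coprime.card_sup_mul_card_inf
      (show (P : Subgroup G) ⊓ centralizer ({t} : Set G) ≤ normalizer (T : Set G) from
        le_normalizer_of_normal)
    have hinf : T ⊓ ((P : Subgroup G) ⊓ centralizer ({t} : Set G)) = ⊥ := by
      refine (eq_bot_iff_forall _).mpr fun y hy => ?_
      obtain ⟨k, hk⟩ := pel_of_mem P.2 hy.2.1
      refine orderOf_eq_one_iff.mp (Nat.eq_one_of_dvd_coprimes (hTp.pow_right k)
        (Subgroup.orderOf_dvd_natCard T hy.1) ?_)
      rw [hk]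
    rw [heq, hinf, card_bot, mul_one] at h1
    rw [← h1, ← hTm t ht htc]
    exact (centralizer ({t} : Set G)).card_mul_index
  -- commutation with `e`
  set D : G → G := fun t => e * t * e⁻¹ * t⁻¹ with hD
  have hDT : ∀ t ∈ T, D t ∈ T := fun t ht => mul_mem (hTn.conj_mem t ht e) (inv_mem ht)
  have hfree : ∀ t ∈ T, Commute e (D t) → D t = 1 := by
    intro t ht hc
    have hit : ∀ j : ℕ, e ^ j * t * (e ^ j)⁻¹ = D t ^ j * t := by
      intro j
      induction j with
      | zero => simp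
      | succ j ih =>
        calc e ^ (j + 1) * t * (e ^ (j + 1))⁻¹ = e * (e ^ j * t * (e ^ j)⁻¹) * e⁻¹ := by
              rw [pow_succ']; group
          _ = e * D t ^ j * (t * e⁻¹) := by rw [ih]; group
          _ = D t ^ j * e * (t * e⁻¹) := by rw [(hc.pow_right j).eq]
          _ = D t ^ j * (D t * t) := by
              rw [mul_assoc, show D t * t = e * (t * e⁻¹) by simp [hD, mul_assoc]]
          _ = D t ^ (j + 1) * t := by simp only [pow_succ, mul_assoc]
    have h1 := hit (orderOf e)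
    rw [pow_orderOf_eq_one, inv_one, mul_one, one_mul, eq_comm, mul_eq_right] at h1
    obtain ⟨k, hk⟩ := he
    refine orderOf_eq_one_iff.mp (Nat.eq_one_of_dvd_coprimes (hTp.pow_right k)
      (Subgroup.orderOf_dvd_natCard T (hDT t ht)) ?_)
    rw [← hk]
    exact orderOf_dvd_of_pow_eq_one h1
  obtain ⟨t₁, ht₁T, ht₁e, ht₁c⟩ : ∃ t ∈ T, Commute e t ∧ t ∉ center G := by
    obtain ⟨x', q', hq', hq'm, hx'⟩ : ∃ x' q', q'.Prime ∧ ¬ q' ∣ m ∧ PEl q' x' ∧ cs x' = m := by
      obtain ⟨q', hq', hq'm, x', h⟩ := hN.exists_x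
      exact ⟨x', q', hq', hq'm, h⟩
    obtain ⟨u, hu, huc, huq⟩ := hN.exists_q hp hpm hq' hq'm hx'.1 hx'.2 he hec
    have hq'p : q' ≠ p := fun e' => hq'm (e' ▸ hpm)
    obtain ⟨c, hc⟩ := exists_conj_mem hq' (hTi q' hq' hq'p) huq
    refine ⟨u, ?_, (mem_cent.mp hu).symm, huc⟩
    simpa [mul_assoc] using hTn.conj_mem _ hc c⁻¹
  obtain ⟨t₀, ht₀T, ht₀⟩ : ∃ t ∈ T, D t ≠ 1 := by
    by_contra h
    push Not at h
    refine Sq.not_dvd_index ((hqn.mul_left m).trans (hemn ▸ index_dvd_of_le fun y hy => ?_))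
    have h1 := h y (hSq hy)
    simp only [hD, mul_inv_eq_one] at h1
    exact mem_cent.mpr (mul_inv_eq_iff_eq_mul.mp h1).symm
  set w := D t₀ with hw
  have hwT := hDT t₀ ht₀T
  have hwe : ¬ Commute e w := fun h => ht₀ (hfree t₀ ht₀T h)
  have hwc : w ∉ center G := fun h => hwe (commute_of_mem_center h)
  have h12e : ¬ Commute e (t₁ * w) := fun h => hwe (by
    have := ht₁e.inv_right.mul_right h
    rwa [inv_mul_cancel_left] at this)
  have h12c : t₁ * w ∉ center G := fun h => h12e (commute_of_mem_center h)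
  have hle : (P : Subgroup G) ⊓ centralizer ({t₁ * w} : Set G) ≤
      ((P : Subgroup G) ⊓ centralizer ({t₁} : Set G)) ⊓
        ((P : Subgroup G) ⊓ centralizer ({w} : Set G)) := by
    rintro g ⟨hgP, hg⟩
    obtain ⟨z, hz, hge⟩ := hcen g hgP
    have hg1 : Commute e (g * t₁ * g⁻¹) := by
      have h1 := ht₁e.map (MulAut.conj g).toMonoidHom
      simp only [MulEquiv.coe_toMonoidHom, MulAut.conj_apply, hge] at h1
      have h2 := h1.mul_left (commute_of_mem_center (inv_mem hz)).symm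
      rwa [mul_inv_cancel_right] at h2
    set t' := g * t₀ * g⁻¹ with ht'
    have ht'T : t' ∈ T := hTn.conj_mem t₀ ht₀T g
    have hgw : g * w * g⁻¹ = D t' := by
      have h1 : g * w * g⁻¹ = (g * e * g⁻¹) * t' * (g * e * g⁻¹)⁻¹ * t'⁻¹ := by
        simp only [hw, hD, ht']; group
      rw [h1, hge]
      simp only [hD]
      have hzt : z * t' * z⁻¹ = t' := by
        rw [(Subgroup.mem_center_iff.mp hz t').symm, mul_inv_cancel_right]
      calc e * z * t' * (e * z)⁻¹ * t'⁻¹ = e * (z * t' * z⁻¹) * e⁻¹ * t'⁻¹ := by group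
        _ = _ := by rw [hzt]
    have hconj : g * (t₁ * w) * g⁻¹ = t₁ * w := by
      rw [(mem_cent.mp hg).eq, mul_inv_cancel_right]
    have hab : (g * t₁ * g⁻¹) * (g * w * g⁻¹) = t₁ * w := by
      rw [show g * t₁ * g⁻¹ * (g * w * g⁻¹) = g * (t₁ * w) * g⁻¹ by group]
      exact hconj
    rw [hgw] at hab
    have hdiff : D (t₀ * t'⁻¹) = w * (D t')⁻¹ := by
      have hc1 : Commute (e * t'⁻¹ * e⁻¹) t₀⁻¹ :=
        hTc _ (hTn.conj_mem _ (inv_mem ht'T) e) _ (inv_mem ht₀T)
      simp only [hw, hD]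
      calc e * (t₀ * t'⁻¹) * e⁻¹ * (t₀ * t'⁻¹)⁻¹
          = e * t₀ * e⁻¹ * (e * t'⁻¹ * e⁻¹ * (t' * t₀⁻¹)) := by group
        _ = e * t₀ * e⁻¹ * (e * t'⁻¹ * e⁻¹ * (t₀⁻¹ * t')) := by
            rw [(hTc t' ht'T t₀⁻¹ (inv_mem ht₀T)).eq]
        _ = e * t₀ * e⁻¹ * (t₀⁻¹ * (e * t'⁻¹ * e⁻¹) * t') := by rw [← hc1.eq]; group
        _ = e * t₀ * e⁻¹ * t₀⁻¹ * (e * t' * e⁻¹ * t'⁻¹)⁻¹ := by
            have hc2 : Commute t' (e * t'⁻¹ * e⁻¹) := hTc t' ht'T _ (hTn.conj_mem _ (inv_mem ht'T) e)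
            rw [show (e * t' * e⁻¹ * t'⁻¹)⁻¹ = t' * (e * t'⁻¹ * e⁻¹) by group, hc2.eq]
            group
    have he3 : t₁⁻¹ * (g * t₁ * g⁻¹) = w * (D t')⁻¹ := by
      have h1 : g * t₁ * g⁻¹ = t₁ * w * (D t')⁻¹ := eq_mul_inv_of_mul_eq hab
      rw [h1]; group
    have hone' : w * (D t')⁻¹ = 1 := by
      rw [← hdiff]
      refine hfree _ (mul_mem ht₀T (inv_mem ht'T)) ?_
      rw [hdiff, ← he3]
      exact ht₁e.inv_right.mul_right hg1
    rw [mul_inv_eq_one] at hone'
    rw [hone', mul_inv_cancel, inv_mul_eq_one] at he3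
    refine ⟨⟨hgP, mem_cent.mpr ?_⟩, hgP, mem_cent.mpr ?_⟩
    · exact mul_inv_eq_iff_eq_mul.mp he3.symm
    · exact mul_inv_eq_iff_eq_mul.mp (hgw.trans hone'.symm)
  have k1 := hcard t₁ ht₁T ht₁c
  have k2 := hcard w hwT hwc
  have k3 := hcard (t₁ * w) (mul_mem ht₁T hwT) h12c
  have hpos : 0 < m := hS.m_pos
  have e1 : Nat.card ((P : Subgroup G) ⊓ centralizer ({t₁ * w} : Set G) : Subgroup G) =
      Nat.card ((P : Subgroup G) ⊓ centralizer ({t₁} : Set G) : Subgroup G) :=
    Nat.eq_of_mul_eq_mul_left Nat.card_pos (Nat.eq_of_mul_eq_mul_right hpos (k3.trans k1.symm))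
  have e2 : (P : Subgroup G) ⊓ centralizer ({t₁ * w} : Set G) =
      (P : Subgroup G) ⊓ centralizer ({t₁} : Set G) :=
    eq_of_le_of_card_ge (fun g hg => (hle hg).1) e1.ge
  have hemem : e ∈ (P : Subgroup G) ⊓ centralizer ({t₁} : Set G) := ⟨heP, mem_cent.mpr ht₁e⟩
  rw [← e2] at hemem
  exact hwe (mem_cent.mp (hle hemem).2.2)

end NoM

end Cfsg.Lib.CoprimeMultiple
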