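import Cfsg.Agent.ClassSize.CoprimeMultiple.MPrime
import Cfsg.Agent.ClassSize.CoprimeMultiple.HallComplement

/-!
Class sizes `1, m, m * n`: the structure when some element of class size `m` has order a power of a
prime dividing `m`.
-/

set_option autoImplicit false
set_option linter.unusedSectionVars false
set_option linter.style.haveILetI false

namespace Cfsg.Lib.CoprimeMultiple

open Subgroup Cfsg.Lib.ClassSize Cfsg.Lib.FourSizes
open scoped IsMulCommutative commutatorElement

universe u

variable {G : Type u} [Group G] [Finite G]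

/-- The structure asserted for class sizes `1, m, m * n`. -/
def Concl (G : Type u) [Group G] (m n : ℕ) : Prop :=
  m.Prime ∧ m ∣ n - 1 ∧
  (∃ M : Subgroup G, M.Normal ∧
    (M : Set G) = {x : G | (centralizer ({x} : Set G)).index = 1 ∨ (centralizer ({x} : Set G)).index = m} ∧
    M.index = m ∧ IsMulCommutative M) ∧
  (∃ N : Subgroup G, N.Normal ∧ (Nat.card N).Coprime m ∧ ∃ a : ℕ, N.index = m ^ a) ∧
  ∀ P : Sylow m G, Nat.card (commutator (P : Subgroup G)) = m

/-- The derived group of a `p`-group with an abelian maximal subgroup `A`, `|A : A ∩ Z| = p`. -/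
theorem card_commutator_of_abelian_maximal {P : Type u} [Group P] [Finite P] {p : ℕ} (hp : p.Prime)
    (hP : IsPGroup p P) {A Z : Subgroup P} [A.Normal] (hA : ∀ x ∈ A, ∀ y ∈ A, Commute x y)
    (hAi : A.index = p) (hZ : Z ≤ center P) (hZA : Z ≤ A)
    (hAZ : Nat.card A = p * Nat.card Z) {g : P} (hg : g ∉ A)
    (hfix : ∀ a ∈ A, Commute a g → a ∈ Z) : Nat.card (commutator P) = p := by
  haveI := Fact.mk hp
  let D : A →* P :=
    { toFun := fun a => g * (a : P) * g⁻¹ * (a : P)⁻¹
      map_one' := by simp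
      map_mul' := fun a b => by
        have hga : g * (a : P) * g⁻¹ ∈ A := (inferInstance : A.Normal).conj_mem _ a.2 g
        have hgb : g * (b : P) * g⁻¹ ∈ A := (inferInstance : A.Normal).conj_mem _ b.2 g
        have h1 : Commute (a : P)⁻¹ (g * (b : P) * g⁻¹ * (b : P)⁻¹) :=
          hA _ (inv_mem a.2) _ (mul_mem hgb (inv_mem b.2))
        calc g * ((a * b : A) : P) * g⁻¹ * ((a * b : A) : P)⁻¹
            = g * (a : P) * g⁻¹ * (g * (b : P) * g⁻¹ * (b : P)⁻¹ * (a : P)⁻¹) := by
              rw [Subgroup.coe_mul]; group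
          _ = g * (a : P) * g⁻¹ * (a : P)⁻¹ * (g * (b : P) * g⁻¹ * (b : P)⁻¹) := by
              rw [← h1.eq]; group }
  have hDA : ∀ a : A, D a ∈ A := fun a =>
    mul_mem ((inferInstance : A.Normal).conj_mem _ a.2 g) (inv_mem a.2)
  have hker : D.ker = Z.subgroupOf A := by
    ext a
    rw [MonoidHom.mem_ker, mem_subgroupOf]
    show g * (a : P) * g⁻¹ * (a : P)⁻¹ = 1 ↔ _
    rw [mul_inv_eq_one, mul_inv_eq_iff_eq_mul]
    exact ⟨fun h => hfix a a.2 h.symm, fun h => Subgroup.mem_center_iff.mp (hZ h) g⟩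
  have hN : Nat.card D.range = p := by
    have h1 := Subgroup.card_eq_card_quotient_mul_card_subgroup D.ker
    rw [Nat.card_congr (QuotientGroup.quotientKerEquivRange D).toEquiv, hker,
      Nat.card_congr (subgroupOfEquivOfLe hZA).toEquiv, hAZ] at h1
    exact (Nat.eq_of_mul_eq_mul_right Nat.card_pos h1).symm
  have hgtop : A ⊔ zpowers g = ⊤ := by
    have h1 : (A ⊔ zpowers g).index ∣ p := hAi ▸ index_dvd_of_le le_sup_left
    rcases (Nat.dvd_prime hp).mp h1 with h | h
    · exact index_eq_one.mp h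
    · exfalso
      have he : A = A ⊔ zpowers g := by
        refine eq_of_le_of_card_ge le_sup_left ?_
        refine Nat.le_of_mul_le_mul_right ?_ hp.pos
        have e1 := A.card_mul_index
        have e2 := (A ⊔ zpowers g).card_mul_index
        rw [hAi] at e1
        rw [h] at e2
        omega
      exact hg (he ▸ mem_sup_right (mem_zpowers g))
  set N := D.range with hNdef
  haveI hNn : N.Normal := by
    refine normalizer_eq_top_iff.mp (top_le_iff.mp (hgtop ▸ sup_le (fun x hx => ?_) (zpowers_le.mpr ?_)))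
    · refine mem_normalizer_fintype fun y hy => ?_
      obtain ⟨a, rfl⟩ := hy
      show x * D a * x⁻¹ ∈ N
      rw [(hA x hx _ (hDA a)).eq, mul_inv_cancel_right]
      exact ⟨a, rfl⟩
    · refine mem_normalizer_fintype fun y hy => ?_
      obtain ⟨a, rfl⟩ := hy
      refine ⟨⟨g * (a : P) * g⁻¹, (inferInstance : A.Normal).conj_mem _ a.2 g⟩, ?_⟩
      show g * (g * (a : P) * g⁻¹) * g⁻¹ * (g * (a : P) * g⁻¹)⁻¹ =
        g * (g * (a : P) * g⁻¹ * (a : P)⁻¹) * g⁻¹
      group
  have hQ : ∀ x y : P, Commute (x : P ⧸ N) (y : P ⧸ N) := by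
    have hgA : ∀ a ∈ A, Commute ((a : P) : P ⧸ N) (g : P ⧸ N) := fun a ha => by
      show ((a : P) : P ⧸ N) * (g : P ⧸ N) = (g : P ⧸ N) * ((a : P) : P ⧸ N)
      rw [← QuotientGroup.mk_mul, ← QuotientGroup.mk_mul, QuotientGroup.eq]
      show (a * g)⁻¹ * (g * a) ∈ N
      have h1 : (a * g)⁻¹ * (g * a) = g⁻¹ * (a⁻¹ * (g * a * g⁻¹)) * g := by group
      have h2 : a⁻¹ * (g * a * g⁻¹) = D ⟨a, ha⟩ :=
        (hA _ (inv_mem ha) _ ((inferInstance : A.Normal).conj_mem _ ha g)).eq
      rw [h1, h2]
      simpa using hNn.conj_mem _ (⟨⟨a, ha⟩, rfl⟩ : D ⟨a, ha⟩ ∈ N) g⁻¹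
    have hx1 : ∀ a ∈ A, ∀ y : P, Commute ((a : P) : P ⧸ N) (y : P ⧸ N) := by
      intro a ha y
      have hle : A ⊔ zpowers g ≤ (centralizer ({((a : P) : P ⧸ N)} : Set (P ⧸ N))).comap
          (QuotientGroup.mk' N) := sup_le
        (fun b hb => mem_cent.mpr ((hA b hb a ha).map (QuotientGroup.mk' N)))
        (zpowers_le.mpr (mem_cent.mpr (hgA a ha).symm))
      rw [hgtop] at hle
      exact (mem_cent.mp (hle (mem_top y))).symm
    intro x y
    have hle : A ⊔ zpowers g ≤ (centralizer ({(y : P ⧸ N)} : Set (P ⧸ N))).comap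
        (QuotientGroup.mk' N) := sup_le (fun b hb => mem_cent.mpr (hx1 b hb y)) (zpowers_le.mpr ?_)
    · rw [hgtop] at hle
      exact mem_cent.mp (hle (mem_top x))
    · refine mem_cent.mpr ?_
      have hle' : A ⊔ zpowers g ≤ (centralizer ({(g : P ⧸ N)} : Set (P ⧸ N))).comap
          (QuotientGroup.mk' N) := sup_le (fun b hb => mem_cent.mpr (hx1 b hb g))
        (zpowers_le.mpr (mem_cent.mpr (Commute.refl _)))
      rw [hgtop] at hle'
      exact (mem_cent.mp (hle' (mem_top y))).symm
  refine le_antisymm ?_ ?_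
  · refine hN ▸ Nat.le_of_dvd Nat.card_pos (card_dvd_of_le ?_)
    refine commutator_le.mpr fun x _ y _ => ?_
    rw [← QuotientGroup.eq_one_iff (N := N), ← QuotientGroup.mk'_apply, map_commutatorElement,
      commutatorElement_eq_one_iff_mul_comm]
    exact (hQ x y).eq
  · refine hN ▸ Nat.le_of_dvd Nat.card_pos (card_dvd_of_le ?_)
    rintro _ ⟨a, rfl⟩
    exact commutator_mem_commutator (mem_top g) (mem_top (a : P))

namespace Sizes

variable {m n : ℕ} (hS : Sizes G m n)
include hS

theorem concl_of_m {p : ℕ} (hp : p.Prime) (hpm : p ∣ m) {x : G} (hx : PEl p x) (hxm : cs x = m) :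
    Concl G m n := by
  haveI := Fact.mk hp
  set C := centralizer ({x} : Set G) with hC
  have hCc := hS.cent_comm hp hpm hx hxm
  haveI hCcom : IsMulCommutative C := ⟨⟨fun a b => Subtype.ext (hCc a a.2 b b.2).eq⟩⟩
  have hCv : ∀ v ∈ C, v ∉ center G → centralizer ({v} : Set G) = C :=
    fun v hv hvc => hS.cent_eq hp hpm hx hxm hv hvc
  have hxc : x ∉ center G := hS.not_center_of_m hxm
  have hCi : C.index = m := hxm
  obtain ⟨a₀, hma⟩ : ∃ a, m = p ^ a := ⟨_, Nat.eq_prime_pow_of_unique_prime_dvd hS.m_pos.ne'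
    fun {s} hs hsm => hS.single_of_m hp hpm hx hxm hs hsm⟩
  have hsol : Group.IsSolvable G := solvable_of_primary hp fun s hs hsp g hg => by
    by_cases hgc : g ∈ center G
    · exact ⟨0, by rw [pow_zero]; exact cs_eq_one_iff.mpr hgc⟩
    refine ⟨a₀, ?_⟩
    have hsm : ¬ s ∣ C.index := by
      rw [hCi, hma]
      exact fun h => hsp ((Nat.prime_dvd_prime_iff_eq hs hp).mp (hs.dvd_of_dvd_pow h))
    obtain ⟨c, hc⟩ := exists_conj_mem hs hsm hg
    rw [← cs_conj g c, ← hma]
    show (centralizer ({c * g * c⁻¹} : Set G)).index = m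
    rw [hCv _ hc fun h => hgc (conj_mem_center_iff.mp h)]
    exact hCi
  -- the `p`-complement
  let T : Subgroup G :=
    { carrier := {g | g ∈ C ∧ (orderOf g).Coprime p}
      one_mem' := ⟨one_mem _, by simp⟩
      mul_mem' := fun {a b} ha hb => ⟨mul_mem ha.1 hb.1,
        Nat.Coprime.coprime_dvd_left ((hCc a ha.1 b hb.1).orderOf_mul_dvd_lcm.trans
          (Nat.lcm_dvd_mul _ _)) (ha.2.mul_left hb.2)⟩
      inv_mem' := fun {a} ha => ⟨inv_mem ha.1, by rw [orderOf_inv]; exact ha.2⟩ }
  have hTC : T ≤ C := fun g hg => hg.1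
  have hTp : (Nat.card T).Coprime p := by
    refine ((hp.coprime_iff_not_dvd).mpr fun hd => ?_).symm
    obtain ⟨⟨y, hy⟩, hyo⟩ := exists_prime_orderOf_dvd_card' (G := T) p hd
    rw [Subgroup.orderOf_mk] at hyo
    have := hy.2
    rw [hyo] at this
    exact hp.ne_one ((Nat.coprime_self p).mp this)
  have hTi : ∀ s : ℕ, s.Prime → s ≠ p → ¬ s ∣ T.index := by
    intro s hs hsp
    haveI := Fact.mk hs
    obtain ⟨S, hSC⟩ := exists_sylow_le_cent (p := s) (H := C) (by
      rw [hCi, hma]
      exact fun h => hsp ((Nat.prime_dvd_prime_iff_eq hs hp).mp (hs.dvd_of_dvd_pow h)))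
    intro hd
    exact S.not_dvd_index (hd.trans (index_dvd_of_le fun y hy =>
      (⟨hSC hy, pel_coprime_prime hs hp hsp (pel_of_mem S.2 hy)⟩ : y ∈ T)))
  haveI hTn : T.Normal := normal_of_hall (fun a ha b hb => hCc a ha.1 b hb.1) hTp hTi fun t ht =>
    commute_core_of_pxq ht.2 hx (mem_cent.mp ht.1) fun o _ hox => hCc o (mem_cent.mpr hox) t ht.1
  -- a non-central `q`-element of `T`
  obtain ⟨q, hq, hqn⟩ := Nat.exists_prime_and_dvd hS.n_lt.ne'
  haveI := Fact.mk hq
  have hqp : q ≠ p := fun e => hS.not_dvd_n hp hpm (e ▸ hqn)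
  obtain ⟨e₀, he₀, he₀c⟩ := hS.exists_noncentral hq (hqn.mul_left m)
  obtain ⟨c, hc⟩ := exists_conj_mem hq (hTi q hq hqp) he₀
  set e := c * e₀ * c⁻¹
  have hec : e ∉ center G := fun h => he₀c (conj_mem_center_iff.mp h)
  have hCT : centralizer (T : Set G) = C := by
    refine le_antisymm (fun y hy => ?_)
      (fun y hy => mem_centralizer_iff.mpr fun t ht => (hCc t (hTC ht) y hy).eq)
    rw [← hCv e hc.1 hec]
    exact mem_cent.mpr (mem_centralizer_iff.mp hy e hc).symm
  haveI hCn : C.Normal := hCT ▸ inferInstance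
  have hNtop : normalizer (C : Set G) = ⊤ := normalizer_eq_top_iff.mpr hCn
  have hex : ∀ v ∈ C, v ∉ center G →
      centralizer ({v} : Set G) ⊓ normalizer (C : Set G) ≤ C := fun v hv hvc => by
    rw [hCv v hv hvc]; exact inf_le_left
  -- `m = p`
  have hmp : m = p := by
    set X := normalizer (C : Set G) ⧸ C.subgroupOf (normalizer (C : Set G))
    have hX : Nat.card X = m := by
      show Nat.card (normalizer (C : Set G) ⧸ C.subgroupOf (normalizer (C : Set G))) = m
      rw [← Subgroup.index_eq_card]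
      show C.relIndex (normalizer (C : Set G)) = m
      rw [hNtop, relIndex_top_right, hCi]
    have hXp : IsPGroup p X := IsPGroup.of_card (n := a₀) (hX.trans hma)
    haveI : Nontrivial X := Finite.one_lt_card_iff_nontrivial.mp (hX ▸ hS.m_lt)
    exact hX.symm.trans (card_eq_prime
      (exact_act C hp (fun v hv _ hvc => hex v hv hvc) ⟨x, self_mem_cent x, hx, hxc⟩)
      (exact_act C hq (fun v hv _ hvc => hex v hv hvc) ⟨e, hc.1, pel_conj he₀ c, hec⟩) hqp.symm hXp)
  subst hmp
  -- classes outside `C`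
  have hM : ∀ y : G, cs y = m → y ∈ C := by
    intro y hy
    obtain ⟨r, hr, z, hz, hzr, hzc⟩ : ∃ r : ℕ, r.Prime ∧ ∃ z ∈ zpowers y, PEl r z ∧ z ∉ center G := by
      by_contra hcon
      push Not at hcon
      exact hS.not_center_of_m hy (mem_of_parts fun r hr z hz hzr => hcon r hr z hz hzr)
    haveI := Fact.mk hr
    have hyz := hS.cent_eq_of_m hy (cent_le_of_mem_zpowers hz) hzc
    suffices hzC : centralizer ({z} : Set G) = C by
      rw [← hzC, ← hyz]; exact self_mem_cent y
    by_cases hrp : r = m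
    · subst hrp
      have hzm : cs z = r := hS.cs_eq_m_of_le hy (cent_le_of_mem_zpowers hz) hzc
      obtain ⟨d, hd⟩ := exists_conj_mem hq (H := centralizer ({z} : Set G))
        (show ¬ q ∣ cs z by rw [hzm]; exact fun h => hqp ((Nat.prime_dvd_prime_iff_eq hq hp).mp h)) he₀
      have hdc : d * e₀ * d⁻¹ ∉ center G := fun h => he₀c (conj_mem_center_iff.mp h)
      rw [← hS.cent_eq hp hpm hzr hzm hd hdc]
      refine hCv _ ?_ hdc
      have := hCn.conj_mem e hc.1 (d * c⁻¹)
      have e' : d * c⁻¹ * e * (d * c⁻¹)⁻¹ = d * e₀ * d⁻¹ := by simp [e, mul_assoc]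
      rwa [e'] at this
    · obtain ⟨d, hd⟩ := exists_conj_mem hr (H := C) (by
        rw [hCi]; exact fun h => hrp ((Nat.prime_dvd_prime_iff_eq hr hp).mp h)) hzr
      refine hCv z ?_ hzc
      simpa [mul_assoc] using hCn.conj_mem _ hd d⁻¹
  have hout : ∀ g : G, g ∉ C → cs g = m * n := by
    intro g hg
    rcases hS.cases g with h | h | h
    · exact absurd ((center_le_cent x) (cs_eq_one_iff.mp h)) hg
    · exact absurd (hM g h) hg
    · exact h
  obtain ⟨g₀, -, hg₀⟩ := SetLike.exists_of_lt (lt_top_iff_ne_top.mpr fun h : C = ⊤ => by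
    rw [h, index_top] at hCi; exact hp.ne_one hCi.symm)
  have hfix : ∀ g : G, g ∉ C → ∀ a ∈ C, Commute a g → a ∈ center G := fun g hg a ha hag => by
    by_contra hac
    exact hg (hCv a ha hac ▸ mem_cent.mpr hag.symm)
  -- `|C : Z| = m n`
  have hCZ : Nat.card C = m * n * Nat.card (center G) := by
    have hinf : C ⊓ centralizer ({g₀} : Set G) = center G := le_antisymm
      (fun a ha => hfix g₀ hg₀ a ha.1 (mem_cent.mp ha.2))
      (le_inf (center_le_cent x) (center_le_cent g₀))
    have hsup : C ⊔ centralizer ({g₀} : Set G) = ⊤ := by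
      rcases (Nat.dvd_prime hp).mp (hCi ▸ index_dvd_of_le le_sup_left :
        (C ⊔ centralizer ({g₀} : Set G)).index ∣ m) with h | h
      · exact index_eq_one.mp h
      · exfalso
        have he : C = C ⊔ centralizer ({g₀} : Set G) := by
          refine eq_of_le_of_card_ge le_sup_left ?_
          refine Nat.le_of_mul_le_mul_right ?_ hp.pos
          have e1 := C.card_mul_index
          have e2 := (C ⊔ centralizer ({g₀} : Set G)).card_mul_index
          rw [hCi] at e1
          rw [h] at e2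
          omega
        exact hg₀ (he ▸ mem_sup_right (self_mem_cent g₀))
    have h1 := Cfsg.Lib.Coprime.card_sup_mul_card_inf
      (show centralizer ({g₀} : Set G) ≤ normalizer (C : Set G) from le_normalizer_of_normal)
    rw [hsup, hinf, card_top] at h1
    have h2 := (centralizer ({g₀} : Set G)).card_mul_index
    rw [show (centralizer ({g₀} : Set G)).index = m * n from hout g₀ hg₀] at h2
    refine Nat.eq_of_mul_eq_mul_right (Nat.card_pos (α := centralizer ({g₀} : Set G))) ?_
    rw [← h1, ← h2]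
    ring
  obtain ⟨k, hTk⟩ : ∃ k, T.index = m ^ k := ⟨_, Nat.eq_prime_pow_of_unique_prime_dvd
    index_ne_zero_of_finite fun {s} hs hd => Classical.by_contradiction fun h => hTi s hs h hd⟩
  refine ⟨hp, ?_, ⟨C, hCn, ?_, hCi, hCcom⟩, ⟨T, hTn, hTp, k, hTk⟩, fun P => ?_⟩
  · -- `p ∣ n - 1`
    obtain ⟨P⟩ : Nonempty (Sylow m G) := inferInstance
    obtain ⟨g, hgP, hgC⟩ : ∃ g ∈ (P : Subgroup G), g ∉ C := by
      by_contra h
      push Not at h
      exact P.not_dvd_index ((hCi ▸ dvd_rfl : m ∣ C.index).trans (index_dvd_of_le h))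
    set TZ := T ⊓ center G
    have hTn' : Nat.card T = n * Nat.card TZ := by
      obtain ⟨b, hb⟩ : ∃ b, Nat.card C = Nat.card T * m ^ b := by
        have h1 : T.relIndex C ∣ m ^ k := hTk ▸ relIndex_dvd_index_of_le hTC
        obtain ⟨b, -, hb⟩ := (Nat.dvd_prime_pow hp).mp h1
        refine ⟨b, ?_⟩
        rw [← hb, ← relIndex_bot_left, ← relIndex_bot_left, relIndex_mul_relIndex _ _ _ bot_le hTC]
      obtain ⟨d, hd⟩ : ∃ d, Nat.card (center G) = Nat.card TZ * m ^ d := by
        have h1 : TZ.relIndex (center G) ∣ m ^ k := by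
          rw [inf_relIndex_right]
          exact hTk ▸ relIndex_dvd_index_of_normal T (center G)
        obtain ⟨d, -, hd⟩ := (Nat.dvd_prime_pow hp).mp h1
        refine ⟨d, ?_⟩
        rw [← hd, ← relIndex_bot_left, ← relIndex_bot_left,
          relIndex_mul_relIndex _ _ _ bot_le inf_le_right]
      rw [hb, hd] at hCZ
      have hc1 : (n * Nat.card TZ).Coprime m :=
        Nat.Coprime.mul_left hS.cop.symm (hTp.coprime_dvd_left (card_dvd_of_le inf_le_left))
      refine Nat.dvd_antisymm ?_ ?_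
      · refine (hTp.pow_right (d + 1)).dvd_of_dvd_mul_right ⟨m ^ b, ?_⟩
        rw [hCZ]; ring
      · refine (hc1.pow_right b).dvd_of_dvd_mul_right ⟨m * m ^ d, ?_⟩
        rw [hCZ]; ring
    haveI : Finite T := inferInstance
    letI : MulAction (P : Subgroup G) T :=
      { smul := fun y t => ⟨(y : G) * (t : G) * (y : G)⁻¹, hTn.conj_mem _ t.2 _⟩
        one_smul := fun t => Subtype.ext (by show ((1 : (P : Subgroup G)) : G) * _ * _ = _; simp)
        mul_smul := fun y z t => Subtype.ext (by
          show ((y * z : (P : Subgroup G)) : G) * (t : G) * ((y * z : (P : Subgroup G)) : G)⁻¹ =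
            (y : G) * ((z : G) * (t : G) * (z : G)⁻¹) * (y : G)⁻¹
          simp [mul_assoc]) }
    have hmod := P.2.card_modEq_card_fixedPoints T
    have hfp : Nat.card (MulAction.fixedPoints (P : Subgroup G) T) = Nat.card TZ := by
      refine Nat.card_congr
        { toFun := fun t => ⟨(t : T), (t : T).2, hfix g hgC _ (hTC (t : T).2) ?_⟩
          invFun := fun t => ⟨⟨t, t.2.1⟩, fun y => Subtype.ext (by
            show (y : G) * (t : G) * (y : G)⁻¹ = (t : G)
            rw [(Subgroup.mem_center_iff.mp t.2.2 y : (y : G) * t = t * y), mul_inv_cancel_right])⟩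
          left_inv := fun t => rfl
          right_inv := fun t => rfl }
      have h1 : g * ((t : T) : G) * g⁻¹ = ((t : T) : G) := congrArg Subtype.val (t.2 ⟨g, hgP⟩)
      exact (mul_inv_eq_iff_eq_mul.mp h1).symm
    rw [hfp, hTn'] at hmod
    have h2 : n ≡ 1 [MOD m] := Nat.ModEq.cancel_right_of_coprime
      (hTp.coprime_dvd_left (card_dvd_of_le inf_le_left)).symm (by rwa [one_mul])
    exact (Nat.modEq_iff_dvd' hS.n_pos).mp h2.symm
  · ext y
    simp only [SetLike.mem_coe, Set.mem_setOf_eq]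
    refine ⟨fun hy => ?_, ?_⟩
    · by_cases hyc : y ∈ center G
      · exact Or.inl (cs_eq_one_iff.mpr hyc)
      · exact Or.inr (by rw [hCv y hy hyc]; exact hCi)
    · rintro (h | h)
      · exact center_le_cent x (cs_eq_one_iff.mp h)
      · exact hM y h
  · -- the commutator subgroup of a Sylow subgroup
    set A := C.subgroupOf (P : Subgroup G)
    set Z := (center G).subgroupOf (P : Subgroup G)
    obtain ⟨g, hgP, hgC⟩ : ∃ g ∈ (P : Subgroup G), g ∉ C := by
      by_contra h
      push Not at h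
      exact P.not_dvd_index ((hCi ▸ dvd_rfl : m ∣ C.index).trans (index_dvd_of_le h))
    have hAi : A.index = m := by
      refine ((Nat.dvd_prime hp).mp (hCi ▸ relIndex_dvd_index_of_normal C (P : Subgroup G) :
        C.relIndex (P : Subgroup G) ∣ m)).resolve_left fun h => hgC ?_
      exact relIndex_eq_one.mp h hgP
    haveI : A.Normal := hCn.subgroupOf _
    have hA : Nat.card A = m ^ (Nat.card C).factorization m := by
      refine Nat.eq_of_mul_eq_mul_right hp.pos ?_
      have h2 := fact_index (p := m) C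
      rw [hCi, hp.factorization_self] at h2
      have h3 := A.card_mul_index
      rw [hAi, P.card_eq_multiplicity, ← h2, pow_succ] at h3
      exact h3
    have hZ : Nat.card Z = m ^ (Nat.card (center G)).factorization m := by
      have hle : ∀ z ∈ center G, PEl m z → z ∈ (P : Subgroup G) := fun z hz hzp =>
        Cfsg.Lib.ClassSizesNilpotent.mem_of_le_centralizer P (pel_isPGroup hzp)
          fun y _ => mem_cent.mpr (commute_of_mem_center hz)
      obtain ⟨j, hj⟩ := IsPGroup.iff_card.mp (P.2.to_subgroup Z)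
      rw [hj]
      congr 1
      have hcard : Nat.card Z = Nat.card ((P : Subgroup G) ⊓ center G : Subgroup G) := by
        rw [← card_map_of_injective (P : Subgroup G).subtype_injective (K := Z), subgroupOf_map_subtype,
          inf_comm]
      rw [hcard] at hj
      have h1 : ¬ (Nat.card ((P : Subgroup G) ⊓ center G : Subgroup G)).factorization m <
          (Nat.card (center G)).factorization m := fun hlt => by
        obtain ⟨b, hb, hbn, hbp⟩ := exists_pel hlt
        exact hbn ⟨hle b hb hbp, hb⟩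
      have h2 := (Nat.factorization_le_iff_dvd Nat.card_pos.ne' Nat.card_pos.ne').mpr
        (card_dvd_of_le (inf_le_right : (P : Subgroup G) ⊓ center G ≤ center G)) m
      rw [hj, hp.factorization_pow, Finsupp.single_eq_same] at h1 h2
      omega
    refine card_commutator_of_abelian_maximal hp P.2 (A := A) (Z := Z)
      (fun a ha b hb => Subtype.ext (hCc a (mem_subgroupOf.mp ha) b (mem_subgroupOf.mp hb)).eq)
      hAi (fun z hz => Subgroup.mem_center_iff.mpr fun y =>
        Subtype.ext (Subgroup.mem_center_iff.mp (mem_subgroupOf.mp hz) y))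
      (fun z hz => mem_subgroupOf.mpr (center_le_cent x (mem_subgroupOf.mp hz))) ?_
      (g := ⟨g, hgP⟩) (fun h => hgC (mem_subgroupOf.mp h))
      fun a ha hag => mem_subgroupOf.mpr (hfix g hgC a (mem_subgroupOf.mp ha) (congrArg Subtype.val hag))
    rw [hA, hZ, ← pow_succ']
    congr 1
    rw [hCZ, Nat.factorization_mul hS.mn_pos.ne' Nat.card_pos.ne',
      Nat.factorization_mul hS.m_pos.ne' hS.n_pos.ne', Finsupp.add_apply, Finsupp.add_apply,
      hp.factorization_self, Nat.factorization_eq_zero_of_not_dvd (hS.not_dvd_n hp dvd_rfl)]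
    omega

end Sizes

end Cfsg.Lib.CoprimeMultiple
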