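import Cfsg.Agent.ClassSize.FourSizes.Basic
import Cfsg.Agent.Frobenius.UniqueSubgroup

/-!
Groups acting on a finite abelian group so that, for certain primes, elements of that prime power
order fixed by a non-trivial operator lie in a given subgroup of fixed points.
-/

set_option autoImplicit false
set_option linter.unusedSectionVars false
set_option linter.style.haveILetI false

namespace Cfsg.Lib.CoprimeMultiple

open Subgroup Finset Cfsg.Lib.FourSizes

universe u v

variable {X : Type u} {K : Type v} [Group X] [Finite X] [CommGroup K] [Finite K]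
  (φ : X →* MulAut K) (Z : Subgroup K)

/-- Non-trivial operators fix no `p`-element outside `Z`; `Z` is fixed and does not contain all
`p`-elements. -/
structure Exact (p : ℕ) : Prop where
  prime : p.Prime
  fix : ∀ x : X, ∀ z ∈ Z, φ x z = z
  exact_mem : ∀ x : X, x ≠ 1 → ∀ v : K, PEl p v → φ x v = v → v ∈ Z
  ex : ∃ v : K, PEl p v ∧ v ∉ Z

variable {φ Z}

theorem pel_image {p : ℕ} (x : X) {v : K} (hv : PEl p v) : PEl p (φ x v) := by
  obtain ⟨k, hk⟩ := hv
  exact ⟨k, by rw [← hk]; exact MulEquiv.orderOf_eq (φ x) v⟩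

theorem pel_mul {p : ℕ} [Fact p.Prime] {v w : K} (hv : PEl p v) (hw : PEl p w) : PEl p (v * w) := by
  obtain ⟨i, hi⟩ := hv
  obtain ⟨j, hj⟩ := hw
  have h1 : (v * w) ^ p ^ (i + j) = 1 := by
    rw [mul_pow, pow_add, pow_mul, ← hi, pow_orderOf_eq_one, one_pow, one_mul, mul_comm, pow_mul,
      ← hj, pow_orderOf_eq_one, one_pow]
  obtain ⟨k, -, hk⟩ := (Nat.dvd_prime_pow (Fact.out : p.Prime)).mp (orderOf_dvd_of_pow_eq_one h1)
  exact ⟨k, hk⟩

theorem mem_of_pow_mem {p n : ℕ} (hn : p.Coprime n) {v : K} (hv : PEl p v) (h : v ^ n ∈ Z) :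
    v ∈ Z := by
  obtain ⟨k, hk⟩ := hv
  have hc : n.Coprime (orderOf v) := by rw [hk]; exact (hn.pow_left k).symm
  obtain ⟨e, he⟩ := exists_pow_eq_self_of_coprime hc
  rw [← he]
  exact pow_mem h e

theorem Exact.norm_mem {p : ℕ} (hE : Exact φ Z p) {x : X} (hx : x ≠ 1) {t : ℕ} (ht : x ^ t = 1)
    {v : K} (hv : PEl p v) : ∏ j ∈ range t, φ (x ^ j) v ∈ Z := by
  haveI := Fact.mk hE.prime
  refine hE.exact_mem x hx _ ?_ ?_
  · refine Finset.prod_induction _ (PEl p) (fun a b => pel_mul) ⟨0, by simp⟩ fun j _ => pel_image _ hv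
  · have h1 : φ x (∏ j ∈ range t, φ (x ^ j) v) = ∏ j ∈ range t, φ (x ^ (j + 1)) v := by
      rw [map_prod]
      exact Finset.prod_congr rfl fun j _ => by rw [pow_succ' x j, map_mul, MulAut.mul_apply]
    rw [h1]
    refine mul_right_cancel (b := φ (x ^ 0) v) ?_
    rw [← Finset.prod_range_succ' (fun j => φ (x ^ j) v) t, Finset.prod_range_succ, pow_zero, ht]

/-- `l` operators of order dividing `t` whose `j`-th powers run through a coset of a group of
order `l`. -/
theorem Exact.pow_mem_of_family {p : ℕ} (hE : Exact φ Z p) {l t : ℕ} (ht : 0 < t) {h g : X}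
    (hh : orderOf h = l) (hh1 : h ≠ 1) (a : ℕ → X) (ha1 : ∀ i < l, a i ≠ 1) (hat : ∀ i < l, a i ^ t = 1)
    (hinj : ∀ j < t, 0 < j → ∀ i < l, ∀ i' < l, a i ^ j = a i' ^ j → i = i')
    (hco : ∀ j < t, 0 < j → ∀ i < l, a i ^ j * (g ^ j)⁻¹ ∈ zpowers h)
    {v : K} (hv : PEl p v) : v ^ l ∈ Z := by
  classical
  have hhl : h ^ l = 1 := by rw [← hh, pow_orderOf_eq_one]
  have hall : ∏ i ∈ range l, ∏ j ∈ range t, φ (a i ^ j) v ∈ Z :=
    prod_mem fun i hi => hE.norm_mem (ha1 i (Finset.mem_range.mp hi)) (hat i (Finset.mem_range.mp hi)) hv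
  rw [Finset.prod_comm, Finset.range_eq_Ico, Finset.prod_eq_prod_Ico_succ_bot ht] at hall
  have h0 : ∏ i ∈ range l, φ (a i ^ 0) v = v ^ l := by simp
  rw [h0] at hall
  refine (mul_mem_cancel_right (prod_mem fun j hj => ?_)).mp hall
  obtain ⟨hj0, hjt⟩ := Finset.mem_Ico.mp hj
  have e1 : ∀ i ∈ range l, ∀ i' ∈ range l, a i ^ j = a i' ^ j → i = i' := fun i hi i' hi' =>
    hinj j hjt hj0 i (Finset.mem_range.mp hi) i' (Finset.mem_range.mp hi')
  have e2 : ∀ i ∈ range l, ∀ i' ∈ range l, h ^ i * g ^ j = h ^ i' * g ^ j → i = i' :=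
    fun i hi i' hi' e => pow_injOn_Iio_orderOf (hh.symm ▸ Finset.mem_range.mp hi)
      (hh.symm ▸ Finset.mem_range.mp hi') (mul_right_cancel e)
  have hsets : (range l).image (fun i => a i ^ j) = (range l).image (fun i => h ^ i * g ^ j) := by
    refine Finset.eq_of_subset_of_card_le (fun y hy => ?_) ?_
    · obtain ⟨i, hi, rfl⟩ := Finset.mem_image.mp hy
      obtain ⟨k, hk, hke⟩ : ∃ k, k < l ∧ h ^ k = a i ^ j * (g ^ j)⁻¹ := by
        have hm := hco j hjt hj0 i (Finset.mem_range.mp hi)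
        obtain ⟨k, hk⟩ := (mem_powers_iff_mem_zpowers).mpr hm
        refine ⟨k % l, Nat.mod_lt _ (hh ▸ orderOf_pos h), ?_⟩
        rw [← hh, pow_mod_orderOf]
        exact hk
      exact Finset.mem_image.mpr ⟨k, Finset.mem_range.mpr hk, by rw [hke, inv_mul_cancel_right]⟩
    · rw [Finset.card_image_of_injOn e1, Finset.card_image_of_injOn e2]
  rw [← Finset.prod_image (f := fun y => φ y v) e1, hsets, Finset.prod_image e2]
  have h3 := hE.norm_mem hh1 hhl (pel_image (φ := φ) (g ^ j) hv)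
  simpa [map_mul, MulAut.mul_apply] using h3

/-- Commuting operators of one prime order generate the same subgroup. -/
theorem Exact.mem_zpowers_of_commute {p l : ℕ} (hE : Exact φ Z p) (hl : l.Prime) (hlp : l ≠ p)
    {x y : X} (hx : orderOf x = l) (hy : orderOf y = l) (hc : Commute x y) : y ∈ zpowers x := by
  by_contra hn
  obtain ⟨v, hv, hvZ⟩ := hE.ex
  have hx1 : x ≠ 1 := fun e => hl.ne_one (by rw [← hx, e, orderOf_one])
  refine hvZ (mem_of_pow_mem ((Nat.coprime_primes hE.prime hl).mpr hlp.symm) hv ?_)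
  refine hE.pow_mem_of_family hl.pos (g := y) hx hx1 (fun i => x ^ i * y) (fun i _ e => hn ?_)
    (fun i _ => ?_) (fun j hjl hj0 i hi i' hi' e => ?_) (fun j _ _ i _ => ?_) hv
  · exact (eq_inv_of_mul_eq_one_right e) ▸ inv_mem (pow_mem (mem_zpowers x) i)
  · have h1 : y ^ l = 1 := by rw [← hy, pow_orderOf_eq_one]
    rw [(hc.pow_left i).mul_pow, ← pow_mul, mul_comm, pow_mul, ← hx, pow_orderOf_eq_one, one_pow,
      one_mul, hx, h1]
  · simp only [(hc.pow_left i).mul_pow, (hc.pow_left i').mul_pow, mul_right_cancel_iff, ← pow_mul]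
      at e
    rw [pow_eq_pow_iff_modEq, hx] at e
    have hcop : l.gcd j = 1 := (hl.coprime_iff_not_dvd.mpr (Nat.not_dvd_of_pos_of_lt hj0 hjl))
    exact (Nat.ModEq.cancel_right_of_coprime hcop e).eq_of_lt_of_lt hi hi'
  · simp only [(hc.pow_left i).mul_pow, mul_inv_cancel_right]
    exact pow_mem (pow_mem (mem_zpowers x) i) j

/-- A `p`-group of operators fixes some `p`-element outside `Z` modulo `Z`. -/
theorem Exact.exists_fixed_mod {p : ℕ} (hE : Exact φ Z p) (P : Subgroup X) (hP : IsPGroup p P) :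
    ∃ v : K, PEl p v ∧ v ∉ Z ∧ v ^ p ∈ Z ∧ ∀ x ∈ P, φ x v * v⁻¹ ∈ Z := by
  classical
  haveI := Fact.mk hE.prime
  let S : Subgroup K :=
    { carrier := {v | PEl p v ∧ v ^ p ∈ Z}
      one_mem' := ⟨⟨0, by simp⟩, by simp⟩
      mul_mem' := fun {a b} ha hb => ⟨pel_mul ha.1 hb.1, by rw [mul_pow]; exact mul_mem ha.2 hb.2⟩
      inv_mem' := fun {a} ha => ⟨by obtain ⟨k, hk⟩ := ha.1; exact ⟨k, by rw [orderOf_inv, hk]⟩,
        by rw [inv_pow]; exact inv_mem ha.2⟩ }
  have hS : ∀ (x : X) (s : K), s ∈ S → φ x s ∈ S := fun x s hs => by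
    refine ⟨pel_image x hs.1, ?_⟩
    rw [← map_pow, hE.fix x _ hs.2]
    exact hs.2
  let W := S ⧸ Z.subgroupOf S
  letI : MulAction P W :=
    { smul := fun x => Quotient.map' (fun s : S => (⟨φ (x : X) s, hS _ _ s.2⟩ : S)) fun a b hab => by
        rw [QuotientGroup.leftRel_apply, mem_subgroupOf] at hab ⊢
        simp only [Subgroup.coe_mul, Subgroup.coe_inv] at hab ⊢
        rw [← map_inv, ← map_mul, hE.fix _ _ hab]
        exact hab
      one_smul := fun w => by
        induction w using Quotient.inductionOn' with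
        | _ s => exact congrArg Quotient.mk'' (Subtype.ext (by
            show φ ((1 : P) : X) (s : K) = s; simp))
      mul_smul := fun x y w => by
        induction w using Quotient.inductionOn' with
        | _ s => exact congrArg Quotient.mk'' (Subtype.ext (by
            show φ ((x * y : P) : X) (s : K) = φ (x : X) (φ (y : X) s); simp)) }
  have hdvd : p ∣ Nat.card W := by
    obtain ⟨v, hv, hvZ⟩ := hE.ex
    obtain ⟨k, hk⟩ := hv
    have hex : ∃ i, v ^ p ^ i ∈ Z := ⟨k, by rw [← hk, pow_orderOf_eq_one]; exact one_mem _⟩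
    have hi0 : Nat.find hex ≠ 0 := fun h => hvZ (by simpa [h] using Nat.find_spec hex)
    obtain ⟨i, hi⟩ := Nat.exists_eq_succ_of_ne_zero hi0
    have hsS : v ^ p ^ i ∈ S := by
      refine ⟨?_, ?_⟩
      · obtain ⟨j, -, hj⟩ := (Nat.dvd_prime_pow hE.prime).mp (hk ▸ orderOf_pow_dvd (x := v) (p ^ i))
        exact ⟨j, hj⟩
      · rw [← pow_mul, ← pow_succ]
        have := Nat.find_spec hex
        rwa [hi] at this
    have hne : ((⟨v ^ p ^ i, hsS⟩ : S) : W) ≠ 1 := fun h => by
      rw [QuotientGroup.eq_one_iff, mem_subgroupOf] at h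
      exact Nat.find_min hex (m := i) (by omega) h
    have hpow : ((⟨v ^ p ^ i, hsS⟩ : S) : W) ^ p = 1 := by
      rw [← QuotientGroup.mk_pow, QuotientGroup.eq_one_iff, mem_subgroupOf]
      exact hsS.2
    exact orderOf_eq_prime hpow hne ▸ orderOf_dvd_natCard _
  have h1fix : (1 : W) ∈ MulAction.fixedPoints P W := fun x =>
    congrArg Quotient.mk'' (Subtype.ext (map_one (φ (x : X))))
  obtain ⟨w, hw, hw1⟩ := hP.exists_fixed_point_of_prime_dvd_card_of_fixed_point W hdvd h1fix
  induction w using Quotient.inductionOn' with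
  | _ s =>
    refine ⟨s, s.2.1, fun h => hw1 ((QuotientGroup.eq_one_iff s).mpr (mem_subgroupOf.mpr h)).symm,
      s.2.2, fun x hx => ?_⟩
    have h := Quotient.exact' (hw ⟨x, hx⟩)
    rw [QuotientGroup.leftRel_apply, mem_subgroupOf] at h
    simp only [Subgroup.coe_mul, Subgroup.coe_inv] at h
    have h2 := inv_mem h
    rwa [mul_inv_rev, inv_inv, mul_comm] at h2

/-- No operator of another prime order normalises a subgroup of prime order. -/
theorem Exact.not_normalizes {l r : ℕ} (hEl : Exact φ Z l) (hEr : Exact φ Z r) (hlr : l ≠ r)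
    {h g : X} (hh : orderOf h = l) {t : ℕ} (ht : t.Prime) (htl : t ≠ l) (hg : orderOf g = t)
    (hnorm : g * h * g⁻¹ ∈ zpowers h) : False := by
  haveI := Fact.mk hEl.prime
  have hg1 : g ≠ 1 := fun e => ht.ne_one (by rw [← hg, e, orderOf_one])
  have hh1 : h ≠ 1 := fun e => hEl.prime.ne_one (by rw [← hh, e, orderOf_one])
  have hgt : g ^ t = 1 := by rw [← hg, pow_orderOf_eq_one]
  by_cases hc : Commute g h
  · have hP : IsPGroup l (zpowers h) := IsPGroup.iff_card.mpr ⟨1, by rw [Nat.card_zpowers, hh, pow_one]⟩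
    obtain ⟨v, hv, hvZ, -, hfix⟩ := hEl.exists_fixed_mod _ hP
    have hz := hfix h (mem_zpowers h)
    set z := φ h v * v⁻¹ with hzdef
    have hhv : φ h v = z * v := by rw [hzdef, inv_mul_cancel_right]
    set w := φ g v * v⁻¹ with hwdef
    have hw : PEl l w := pel_mul (pel_image g hv) (by
      obtain ⟨k, hk⟩ := hv
      exact ⟨k, by rw [orderOf_inv, hk]⟩)
    have hwZ : w ∈ Z := by
      refine hEl.exact_mem h hh1 w hw ?_
      have e : φ h (φ g v) = φ g (φ h v) := by
        rw [← MulAut.mul_apply, ← MulAut.mul_apply, ← map_mul, ← map_mul, hc.eq]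
      rw [hwdef, map_mul, map_inv, e, hhv, map_mul, hEl.fix g z hz, mul_inv_rev, mul_comm v⁻¹ z⁻¹,
        mul_comm z, mul_assoc, mul_inv_cancel_left]
    have hgv : φ g v = w * v := by rw [hwdef, inv_mul_cancel_right]
    have hiter : ∀ j : ℕ, φ (g ^ j) v = w ^ j * v := by
      intro j
      induction j with
      | zero => simp
      | succ j ih =>
        rw [pow_succ', map_mul, MulAut.mul_apply, ih, map_mul, map_pow, hEl.fix g w hwZ, hgv,
          ← mul_assoc, ← pow_succ]
    have h1 := hiter t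
    rw [hgt, map_one, MulAut.one_apply, eq_comm, mul_eq_right] at h1
    obtain ⟨k, hk⟩ := hw
    have hw1 : w = 1 := orderOf_eq_one_iff.mp (Nat.eq_one_of_dvd_coprimes
      (Nat.Coprime.pow_left k ((Nat.coprime_primes hEl.prime ht).mpr htl.symm)) (hk ▸ dvd_rfl)
      (orderOf_dvd_of_pow_eq_one h1))
    exact hvZ (hEl.exact_mem g hg1 v hv (by rw [hgv, hw1, one_mul]))
  · obtain ⟨v, hv, hvZ⟩ := hEr.ex
    have hcg : ∀ j, 0 < j → j < t → ¬ Commute (g ^ j) h := fun j hj0 hjt hc' => hc (by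
      obtain ⟨e, he⟩ := exists_pow_eq_self_of_coprime (x := g) (n := j) (by
        rw [hg]; exact ((ht.coprime_iff_not_dvd).mpr (Nat.not_dvd_of_pos_of_lt hj0 hjt)).symm)
      rw [← he]
      exact hc'.pow_left e)
    have hnk : ∀ (j : ℕ) (y : X), y ∈ zpowers h → g ^ j * y * (g ^ j)⁻¹ ∈ zpowers h := by
      intro j
      induction j with
      | zero => intro y hy; simpa using hy
      | succ j ih =>
        intro y hy
        have e : g ^ (j + 1) * y * (g ^ (j + 1))⁻¹ = g * (g ^ j * y * (g ^ j)⁻¹) * g⁻¹ := by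
          rw [pow_succ']; group
        rw [e]
        obtain ⟨k, hk⟩ := mem_zpowers_iff.mp (ih y hy)
        rw [← hk, ← conj_zpow]
        exact zpow_mem hnorm k
    have hpow : ∀ i j : ℕ, (h ^ i * g * (h ^ i)⁻¹) ^ j = h ^ i * g ^ j * (h ^ i)⁻¹ := fun i j => conj_pow
    refine hvZ (mem_of_pow_mem ((Nat.coprime_primes hEr.prime hEl.prime).mpr hlr.symm) hv ?_)
    refine hEr.pow_mem_of_family ht.pos (g := g) hh hh1 (fun i => h ^ i * g * (h ^ i)⁻¹)
      (fun i _ e => hg1 (conj_eq_one_iff.mp e)) (fun i _ => ?_) (fun j hjt hj0 i hi i' hi' e => ?_)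
      (fun j _ _ i _ => ?_) hv
    · show (h ^ i * g * (h ^ i)⁻¹) ^ t = 1
      rw [hpow, hgt, mul_one, mul_inv_cancel]
    · simp only [hpow] at e
      by_contra hne
      wlog hlt : i < i' generalizing i i'
      · exact this i' hi' i hi e.symm (Ne.symm hne) (lt_of_le_of_ne (not_lt.mp hlt) (Ne.symm hne))
      refine hcg j hj0 hjt ?_
      have hcm : Commute (g ^ j) (h ^ (i' - i)) := by
        have e' : h ^ i' = h ^ i * h ^ (i' - i) := by rw [← pow_add, Nat.add_sub_cancel' hlt.le]
        rw [e', mul_assoc, mul_assoc, mul_inv_rev, mul_assoc] at e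
        have e2 := mul_left_cancel e
        rw [← mul_assoc, ← mul_assoc, mul_left_inj, eq_mul_inv_iff_mul_eq] at e2
        exact e2
      obtain ⟨e', he'⟩ := exists_pow_eq_self_of_coprime (x := h) (n := i' - i) (by
        rw [hh]; exact ((hEl.prime.coprime_iff_not_dvd).mpr
          (Nat.not_dvd_of_pos_of_lt (by omega) (by omega))).symm)
      rw [← he']
      exact hcm.pow_right e'
    · simp only [hpow]
      rw [mul_assoc, mul_assoc, ← mul_assoc (g ^ j)]
      exact mul_mem (pow_mem (mem_zpowers h) i) (hnk j _ (inv_mem (pow_mem (mem_zpowers h) i)))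

/-- A `p`-subgroup of operators has only one subgroup of order `p`. -/
theorem Exact.unique {p r : ℕ} [hp : Fact p.Prime] (hEr : Exact φ Z r) (hpr : p ≠ r) {P : Subgroup X}
    (hP : IsPGroup p P) : ∀ x y : P, orderOf x = p → orderOf y = p → y ∈ zpowers x := by
  intro x y hx hy
  haveI : Nontrivial P := ⟨⟨x, 1, fun e => hp.out.one_lt.ne (by rw [← hx, e, orderOf_one])⟩⟩
  haveI := hP.center_nontrivial
  obtain ⟨k, hk0, hk⟩ := (hP.to_subgroup (Subgroup.center P)).nontrivial_iff_card.mp inferInstance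
  obtain ⟨⟨z, hzc⟩, hz⟩ := exists_prime_orderOf_dvd_card' (G := Subgroup.center P) p
    (by rw [hk]; exact dvd_pow_self p (by omega))
  rw [Subgroup.orderOf_mk] at hz
  have key : ∀ w : P, orderOf w = p → zpowers (w : X) = zpowers (z : X) := fun w hw => by
    have hm : (w : X) ∈ zpowers (z : X) := hEr.mem_zpowers_of_commute hp.out hpr
      (by rw [Subgroup.orderOf_coe, hz]) (by rw [Subgroup.orderOf_coe, hw])
      (congrArg Subtype.val (Subgroup.mem_center_iff.mp hzc w)).symm
    exact eq_of_le_of_card_ge (zpowers_le.mpr hm)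
      (by rw [Nat.card_zpowers, Nat.card_zpowers, Subgroup.orderOf_coe, Subgroup.orderOf_coe, hw, hz])
  have : (y : X) ∈ zpowers (x : X) := by rw [key x hx, ← key y hy]; exact mem_zpowers _
  obtain ⟨n, hn⟩ := mem_zpowers_iff.mp this
  exact mem_zpowers_iff.mpr ⟨n, Subtype.ext (by simpa using hn)⟩

/-- Two primes dividing the order of the group of operators cannot both be exact. -/
theorem false_of_two_primes {r s : ℕ} (hEr : Exact φ Z r) (hEs : Exact φ Z s) (hrs : r ≠ s)
    (hr : r ∣ Nat.card X) (hs : s ∣ Nat.card X) : False := by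
  wlog hr2 : r ≠ 2 generalizing r s
  · push Not at hr2
    exact this hEs hEr (Ne.symm hrs) hs hr (fun h => hrs (hr2.trans h.symm))
  haveI := Fact.mk hEr.prime
  haveI := Fact.mk hEs.prime
  obtain ⟨R⟩ : Nonempty (Sylow r X) := inferInstance
  have hRc : IsCyclic (R : Subgroup X) :=
    (Cfsg.Lib.UniqueSub.isCyclic_or_quaternion R.2 (hEs.unique hrs R.2)).resolve_right
      fun h => hr2 h.1
  have hRne : Nat.card (R : Subgroup X) ≠ 1 := fun h1 => R.not_dvd_index (by
    have := (R : Subgroup X).card_mul_index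
    rw [h1, one_mul] at this
    exact this.symm ▸ hr)
  obtain ⟨⟨h, hhR⟩, hho⟩ := exists_prime_orderOf_dvd_card' (G := (R : Subgroup X)) r (by
    obtain ⟨k, hk⟩ := IsPGroup.iff_card.mp R.2
    rw [hk] at hRne ⊢
    exact dvd_pow_self r (fun e => hRne (by rw [e, pow_zero])))
  rw [Subgroup.orderOf_mk] at hho
  have huni : ∀ y ∈ (R : Subgroup X), orderOf y = r → y ∈ zpowers h := fun y hy hyo => by
    obtain ⟨n, hn⟩ := mem_zpowers_iff.mp (hEs.unique hrs R.2 ⟨h, hhR⟩ ⟨y, hy⟩
      (by rw [Subgroup.orderOf_mk, hho]) (by rw [Subgroup.orderOf_mk, hyo]))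
    exact mem_zpowers_iff.mpr ⟨n, congrArg Subtype.val hn⟩
  -- the normaliser of `R` is an `r`-group
  set N := normalizer ((R : Subgroup X) : Set X) with hN
  have hNR : N = (R : Subgroup X) := by
    refine R.is_maximal' (IsPGroup.of_card (n := (Nat.card N).primeFactorsList.length)
      (Nat.eq_prime_pow_of_unique_prime_dvd Nat.card_pos.ne' fun {t} ht htd => ?_)) le_normalizer
    by_contra htr
    haveI := Fact.mk ht
    obtain ⟨⟨g, hg⟩, hgo⟩ := exists_prime_orderOf_dvd_card' (G := N) t htd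
    rw [Subgroup.orderOf_mk] at hgo
    refine hEr.not_normalizes hEs hrs hho ht htr hgo (huni _ ((mem_normalizer_iff.mp hg h).mp hhR) ?_)
    rw [← hho]
    exact orderOf_injective (MulAut.conj g).toMonoidHom (MulAut.conj g).injective h
  have hP : normalizer ((R : Subgroup X) : Set X) ≤ centralizer ((R : Subgroup X) : Set X) := by
    rw [← hN, hNR]
    intro a ha
    refine mem_centralizer_iff.mpr fun b hb => ?_
    haveI := hRc
    exact congrArg Subtype.val
      ((IsCyclic.commGroup (α := (R : Subgroup X))).mul_comm ⟨b, hb⟩ ⟨a, ha⟩)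
  set M := (MonoidHom.transferSylow R hP).ker with hM
  have hsM : s ∣ Nat.card M := by
    have hc := (MonoidHom.ker_transferSylow_isComplement' R hP).card_mul
    obtain ⟨k, hk⟩ := IsPGroup.iff_card.mp R.2
    refine ((hEs.prime.dvd_mul).mp (hc.symm ▸ hs)).resolve_right fun h' => hrs ?_
    rw [hk] at h'
    exact ((Nat.prime_dvd_prime_iff_eq hEs.prime hEr.prime).mp (hEs.prime.dvd_of_dvd_pow h')).symm
  obtain ⟨S⟩ : Nonempty (Sylow s M) := inferInstance
  set S' := (S : Subgroup M).map M.subtype with hS'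
  have htop := Sylow.normalizer_sup_eq_top S
  -- `r` divides the order of the normaliser of `S'`
  have hrN : r ∣ Nat.card (normalizer (S' : Set X)) := by
    have h1 : (normalizer (S' : Set X)).map (QuotientGroup.mk' M) = ⊤ := by
      rw [← map_top_of_surjective _ (QuotientGroup.mk'_surjective M), ← htop, Subgroup.map_sup,
        QuotientGroup.map_mk'_self, sup_bot_eq]
    have h2 := card_map_dvd (H := normalizer (S' : Set X)) (QuotientGroup.mk' M)
    rw [h1, card_top, ← index_eq_card] at h2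
    refine (((hEr.prime.dvd_mul).mp (M.card_mul_index.symm ▸ hr)).resolve_left ?_).trans h2
    exact MonoidHom.not_dvd_card_ker_transferSylow R hP
  obtain ⟨⟨g, hg⟩, hgo⟩ := exists_prime_orderOf_dvd_card' (G := normalizer (S' : Set X)) r hrN
  rw [Subgroup.orderOf_mk] at hgo
  have hS'p : IsPGroup s S' := S.2.map _
  obtain ⟨⟨y, hy⟩, hyo⟩ := exists_prime_orderOf_dvd_card' (G := S') s (by
    obtain ⟨k, hk⟩ := IsPGroup.iff_card.mp hS'p
    rw [hk]
    refine dvd_pow_self s fun e => ?_
    have := S.card_eq_multiplicity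
    rw [← card_map_of_injective M.subtype_injective, ← hS', hk, e, pow_zero] at this
    have h0 : (Nat.card M).factorization s ≠ 0 :=
      (hEs.prime.factorization_pos_of_dvd Nat.card_pos.ne' hsM).ne'
    exact h0 ((Nat.pow_eq_one).mp this.symm |>.resolve_left hEs.prime.ne_one))
  rw [Subgroup.orderOf_mk] at hyo
  refine hEs.not_normalizes hEr (Ne.symm hrs) hyo hEr.prime hrs hgo ?_
  have hyg : g * y * g⁻¹ ∈ S' := (mem_normalizer_iff.mp hg y).mp hy
  obtain ⟨n, hn⟩ := mem_zpowers_iff.mp (hEr.unique (Ne.symm hrs) hS'p ⟨y, hy⟩ ⟨_, hyg⟩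
    (by rw [Subgroup.orderOf_mk, hyo]) (by
      rw [Subgroup.orderOf_mk, ← hyo]
      exact orderOf_injective (MulAut.conj g).toMonoidHom (MulAut.conj g).injective y))
  exact mem_zpowers_iff.mpr ⟨n, congrArg Subtype.val hn⟩

/-- A non-trivial `p`-group of operators which is exact at `p` and at another prime has order
`p`. -/
theorem card_eq_prime {p q : ℕ} (hEp : Exact φ Z p) (hEq : Exact φ Z q) (hpq : p ≠ q)
    (hX : IsPGroup p X) [Nontrivial X] : Nat.card X = p := by
  haveI := Fact.mk hEp.prime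
  obtain ⟨a, ha, haZ, hap, hfix⟩ := hEp.exists_fixed_mod ⊤ (hX.to_subgroup ⊤)
  let ψ : X →* K :=
    { toFun := fun x => φ x a * a⁻¹
      map_one' := by simp
      map_mul' := fun x y => by
        have h1 : φ (x * y) a = φ x (φ y a * a⁻¹ * a) := by
          rw [map_mul, MulAut.mul_apply, inv_mul_cancel_right]
        rw [h1, map_mul, hEp.fix x _ (hfix y (Subgroup.mem_top y))]
        rw [mul_comm (φ x a * a⁻¹), mul_assoc, mul_assoc] }
  have hker : ∀ x, ψ x = 1 → x = 1 := fun x hx => by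
    by_contra hne
    exact haZ (hEp.exact_mem x hne a ha (mul_inv_eq_one.mp hx))
  have hψinj : Function.Injective ψ := fun x y e =>
    eq_of_div_eq_one (hker _ (by rw [map_div, e, div_self']))
  have hexp : ∀ x : X, x ^ p = 1 := fun x => hker _ (by
    rw [map_pow]
    show (φ x a * a⁻¹) ^ p = 1
    rw [mul_pow, inv_pow, ← map_pow, hEp.fix x _ hap, mul_inv_cancel])
  obtain ⟨x, hx⟩ := exists_ne (1 : X)
  have hxo := orderOf_eq_prime (hexp x) hx
  have htop : zpowers x = ⊤ := eq_top_iff.mpr fun y _ => by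
    by_cases hy : y = 1
    · subst hy; exact one_mem _
    · exact hEq.mem_zpowers_of_commute hEp.prime hpq hxo (orderOf_eq_prime (hexp y) hy)
        (hψinj (by rw [map_mul, map_mul, mul_comm]))
  rw [← Subgroup.card_top (G := X), ← htop, Nat.card_zpowers, hxo]

end Cfsg.Lib.CoprimeMultiple
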