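import Cfsg.Agent.ClassSize.CoprimeMultiple.Multi

/-!
Class sizes `1, m, m * n`: an element of class size `m` whose order is a power of a prime dividing
`m` has an abelian centraliser.
-/

set_option autoImplicit false
set_option linter.unusedSectionVars false
set_option linter.style.haveILetI false

namespace Cfsg.Lib.CoprimeMultiple

open Subgroup Cfsg.Lib.ClassSize Cfsg.Lib.FourSizes

universe u

variable {G : Type u} [Group G] [Finite G]

theorem commute_mem_of_parts {y w : G}
    (h : ∀ r : ℕ, r.Prime → ∀ g ∈ zpowers y, PEl r g → Commute g w) : Commute y w :=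
  mem_cent.mp (mem_of_parts fun r hr g hg hgr => mem_cent.mpr (h r hr g hg hgr))

namespace Sizes

variable {m n : ℕ} (hS : Sizes G m n)
include hS

/-- The centraliser of a `p`-element of class size `m`, `p ∣ m`. -/
theorem split_m {p : ℕ} (hp : p.Prime) (hpm : p ∣ m) {x : G} (hx : PEl p x) (hxm : cs x = m) :
    ∃ P L : Subgroup G, P ≤ centralizer ({x} : Set G) ∧ L ≤ centralizer ({x} : Set G) ∧
      IsPGroup p P ∧ (Nat.card L).Coprime p ∧
      (∀ g ∈ centralizer ({x} : Set G), PEl p g → g ∈ P) ∧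
      (∀ g ∈ centralizer ({x} : Set G), (orderOf g).Coprime p → g ∈ L) ∧
      (∀ g ∈ centralizer ({x} : Set G), ∀ y ∈ P, g * y * g⁻¹ ∈ P) ∧
      (∀ y ∈ P, ∀ z ∈ L, Commute y z) ∧
      (∀ g ∈ centralizer ({x} : Set G), ∃ y ∈ P, ∃ z ∈ L, g = y * z) ∧
      ((∀ y ∈ L, ∀ z ∈ L, Commute y z) ∨ ∃ r b : ℕ, r.Prime ∧ n = r ^ b ∧
        (∀ y ∈ L, (orderOf y).Coprime r → ∀ z ∈ L, Commute y z) ∧
        ∃ R : Subgroup G, R ≤ L ∧ IsPGroup r R ∧ (∀ y ∈ L, PEl r y → y ∈ R) ∧
          ∀ g ∈ centralizer ({x} : Set G), ∀ y ∈ R, g * y * g⁻¹ ∈ R) :=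
  split_of hS.m_pos hS.n_lt (hS.not_dvd_n hp hpm) hp (fun y hy => by
    rcases hS.cases y with h | h | h
    · exact absurd (Nat.dvd_one.mp (h ▸ hy)) hS.m_lt.ne'
    · exact Or.inl h
    · exact Or.inr h) hx hxm

/-- The `p'`-elements of the centraliser commute with each other. -/
theorem compl_comm {p : ℕ} (hp : p.Prime) (hpm : p ∣ m) {x : G} (hx : PEl p x) (hxm : cs x = m) :
    ∀ y ∈ centralizer ({x} : Set G), ∀ z ∈ centralizer ({x} : Set G),
      (orderOf y).Coprime p → (orderOf z).Coprime p → Commute y z := by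
  haveI := Fact.mk hp
  obtain ⟨P, L, hPC, hLC, hPp, hLp, hPmem, hLmem, hPn, hPL, hdec, hL⟩ := hS.split_m hp hpm hx hxm
  rcases hL with hL | ⟨q, β, hq, hn, hLc, Q, hQL, hQq, hQmem, hQn⟩
  · exact fun y hy z hz hyp hzp => hL y (hLmem y hy hyp) z (hLmem z hz hzp)
  by_contra hnab
  haveI := Fact.mk hq
  set C := centralizer ({x} : Set G) with hC
  have hβ : β ≠ 0 := fun e => by rw [e, pow_zero] at hn; exact absurd hn hS.n_lt.ne'
  have hqn : q ∣ n := hn ▸ dvd_pow_self q hβ
  have hqm : ¬ q ∣ m := hS.not_dvd_m hq hqn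
  have hqp : q ≠ p := fun e => hqm (e ▸ hpm)
  have hn_dvd : ∀ s : ℕ, s.Prime → s ∣ n → s = q := fun s hs hsn =>
    (Nat.prime_dvd_prime_iff_eq hs hq).mp (hs.dvd_of_dvd_pow (hn ▸ hsn))
  -- `Q` is a Sylow subgroup of `G`
  obtain ⟨S, hSC⟩ := exists_sylow_le_cent (p := q) (H := C) (show ¬ q ∣ cs x by rw [hxm]; exact hqm)
  have hSQ : (S : Subgroup G) ≤ Q := fun y hy =>
    hQmem y (hLmem y (hSC hy) (pel_coprime_prime hq hp hqp (pel_of_mem S.2 hy))) (pel_of_mem S.2 hy)
  have hQS : Q = (S : Subgroup G) := S.is_maximal' hQq hSQ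
  -- `Q` is not commutative
  have hqparts : ∀ y ∈ L, ∀ z ∈ L, (∀ a ∈ Q, ∀ b ∈ Q, Commute a b) → Commute y z := by
    intro y hy z hz hQc
    refine commute_mem_of_parts fun r hr g hg hgr => ?_
    have hgL : g ∈ L := zpowers_le.mpr hy hg
    by_cases hrq : r = q
    · subst hrq
      refine (commute_mem_of_parts fun s hs k hk hks => ?_).symm
      have hkL : k ∈ L := zpowers_le.mpr hz hk
      by_cases hsq : s = r
      · subst hsq
        exact hQc k (hQmem k hkL hks) g (hQmem g hgL hgr)
      · exact hLc k hkL (pel_coprime_prime hs hr hsq hks) g hgL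
    · exact hLc g hgL (pel_coprime_prime hr hq hrq hgr) z hz
  obtain ⟨u, huQ, v, hvQ, huv⟩ : ∃ u ∈ Q, ∃ v ∈ Q, ¬ Commute u v := by
    by_contra h
    push Not at h
    exact hnab fun y hy z hz hyp hzp => hqparts y (hLmem y hy hyp) z (hLmem z hz hzp) h
  have huq : PEl q u := pel_of_mem hQq huQ
  have huC : u ∈ C := hLC (hQL huQ)
  have huc : u ∉ center G := fun h => huv (commute_of_mem_center h).symm
  have hxu : centralizer ({x * u} : Set G) = C ⊓ centralizer ({u} : Set G) :=
    cent_mul_of_coprime (mem_cent.mp huC).symm (pel_coprime hp hq hqp.symm hx huq)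
  have hxuc : ∀ w : G, C ⊓ centralizer ({w} : Set G) = centralizer ({x * w} : Set G) →
      x * w ∉ center G := by
    intro w hw hc
    have h1 : cs (x * w) = 1 := cs_eq_one_iff.mpr hc
    have h2 : cs x ∣ cs (x * w) := index_dvd_of_le (hw ▸ inf_le_left)
    rw [h1, hxm, Nat.dvd_one] at h2
    exact hS.m_lt.ne' h2
  -- every non-central centraliser contains non-central `q`-elements
  have hqlt : ∀ f : G, (Nat.card (center G)).factorization q <
      (Nat.card (centralizer ({f} : Set G))).factorization q := by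
    intro f
    have h1 : cs (x * u) = m * n := by
      refine (hS.cs_cases (hxuc u hxu.symm)).resolve_left fun h => huv ?_
      have h2 : centralizer ({x * u} : Set G) = C := by
        rw [hxu]
        refine eq_of_le_of_card_ge inf_le_left ?_
        refine Nat.le_of_mul_le_mul_right ?_ hS.m_pos
        have e1 := C.card_mul_index
        have e2 := (C ⊓ centralizer ({u} : Set G)).card_mul_index
        rw [show C.index = m from hxm] at e1
        rw [show (C ⊓ centralizer ({u} : Set G)).index = m by rw [← hxu]; exact h] at e2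
        omega
      rw [hxu, inf_eq_left] at h2
      exact (mem_cent.mp (h2 (hLC (hQL hvQ)))).symm
    have h2 := fact_lt (p := q) (Z := center G) (K := C ⊓ centralizer ({u} : Set G))
      (fun z hz => ⟨center_le_cent x hz, center_le_cent u hz⟩) ⟨huC, self_mem_cent u⟩ huc huq
      fun z hz => commute_of_mem_center hz
    have h3 := fact_index (p := q) (centralizer ({f} : Set G))
    have h4 := fact_index (p := q) (C ⊓ centralizer ({u} : Set G))
    have h6 : (centralizer ({x * u} : Set G)).index = m * n := h1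
    rw [hxu] at h6
    rw [h6] at h4
    have h5 : (centralizer ({f} : Set G)).index.factorization q ≤ (m * n).factorization q := by
      rcases hS.cases f with h | h | h <;>
        rw [show (centralizer ({f} : Set G)).index = _ from h]
      · simp
      · exact (Nat.factorization_le_iff_dvd hS.m_pos.ne' hS.mn_pos.ne').mpr (dvd_mul_right m n) q
    omega
  -- the other primary elements have a conjugate commuting with `Q`
  have hother : ∀ s : ℕ, s.Prime → s ≠ q → ∀ f : G, PEl s f → f ∉ center G →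
      ∃ c : G, (Q : Subgroup G) ≤ centralizer ({c * f * c⁻¹} : Set G) ∧ cs (c * f * c⁻¹) = m := by
    intro s hs hsq f hf hfc
    haveI := Fact.mk hs
    obtain ⟨w, hwf, hwc, hwq⟩ := exists_pel (hqlt f)
    obtain ⟨c, hc⟩ := exists_conj_mem hq S.not_dvd_index hwq
    set u' := c * w * c⁻¹ with hu'
    have hu'Q : u' ∈ Q := hQS ▸ hc
    have hu'c : u' ∉ center G := fun h => hwc (conj_mem_center_iff.mp h)
    have hu'C : u' ∈ C := hLC (hQL hu'Q)
    have hfu' : c * f * c⁻¹ ∈ centralizer ({u'} : Set G) :=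
      mem_cent.mpr ((mem_cent.mp hwf).symm.map (MulAut.conj c).toMonoidHom)
    have hxu' : centralizer ({x * u'} : Set G) = C ⊓ centralizer ({u'} : Set G) :=
      cent_mul_of_coprime (mem_cent.mp hu'C).symm (pel_coprime hp hq hqp.symm hx (pel_of_mem hQq hu'Q))
    have hsn : ¬ s ∣ n := fun h => hsq (hn_dvd s hs h)
    have h1 : ¬ s ∣ ((C ⊓ centralizer ({u'} : Set G)).subgroupOf (centralizer ({u'} : Set G))).index := by
      show ¬ s ∣ (C ⊓ centralizer ({u'} : Set G)).relIndex (centralizer ({u'} : Set G))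
      intro hd
      have e1 := hS.fact_cs hsn (hxuc u' hxu'.symm)
      have e2 := hS.fact_cs hsn hu'c
      have e4 : (centralizer ({x * u'} : Set G)).index.factorization s = m.factorization s := e1
      have e5 : (centralizer ({u'} : Set G)).index.factorization s = m.factorization s := e2
      rw [hxu', ← relIndex_mul_index (inf_le_right : C ⊓ centralizer ({u'} : Set G) ≤ _),
        Nat.factorization_mul (fun h0 => by
          have := relIndex_mul_index (inf_le_right : C ⊓ centralizer ({u'} : Set G) ≤ _)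
          rw [h0, zero_mul] at this
          exact index_ne_zero_of_finite this.symm) index_ne_zero_of_finite, Finsupp.add_apply, e5] at e4
      have := hs.factorization_pos_of_dvd (fun h0 => by
          have := relIndex_mul_index (inf_le_right : C ⊓ centralizer ({u'} : Set G) ≤ _)
          rw [h0, zero_mul] at this
          exact index_ne_zero_of_finite this.symm) hd
      omega
    obtain ⟨⟨d, hd⟩, hdC⟩ := exists_conj_mem hs h1
      (g := (⟨c * f * c⁻¹, hfu'⟩ : centralizer ({u'} : Set G))) (by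
        obtain ⟨k, hk⟩ := pel_conj hf c
        exact ⟨k, by rwa [Subgroup.orderOf_mk]⟩)
    set f₂ := (d * c) * f * (d * c)⁻¹ with hf₂
    have hf₂e : f₂ = d * (c * f * c⁻¹) * d⁻¹ := by rw [hf₂]; group
    have hf₂C : f₂ ∈ C := hf₂e ▸ (mem_subgroupOf.mp hdC).1
    have hf₂s : PEl s f₂ := pel_conj hf _
    have hQf : Q ≤ centralizer ({f₂} : Set G) := fun y hy => mem_cent.mpr (by
      by_cases hsp : s = p
      · exact (hPL f₂ (hPmem f₂ hf₂C (hsp ▸ hf₂s)) y (hQL hy)).symm
      · exact (hLc f₂ (hLmem f₂ hf₂C (pel_coprime_prime hs hp hsp hf₂s))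
          (pel_coprime_prime hs hq hsq hf₂s) y (hQL hy)).symm)
    refine ⟨d * c, hQf, ?_⟩
    rcases hS.cs_cases (x := f₂) (fun h => hfc (conj_mem_center_iff.mp h)) with h | h
    · exact h
    · exact absurd ((hqn.mul_left m).trans (h ▸ index_dvd_of_le (hQS ▸ hQf)))
        S.not_dvd_index
  -- hence `G = Q C(Q)`
  set T := Q ⊔ centralizer (Q : Set G) with hT
  have hTtop : T = ⊤ := by
    by_contra hne
    obtain ⟨z, hz₀⟩ := Cfsg.Lib.SolvStruct.exists_not_mem_conj T hne
    have hz : ∀ c : G, c * z * c⁻¹ ∉ T := fun c => by simpa using hz₀ c⁻¹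
    by_cases hall : ∀ s : ℕ, s.Prime → s ≠ q → ∀ g ∈ zpowers z, PEl s g → g ∈ center G
    · set zq := z ^ (orderOf z / q ^ (orderOf z).factorization q) with hzq
      have hzqo : orderOf zq = q ^ (orderOf z).factorization q :=
        orderOf_pow_orderOf_div (orderOf_pos z).ne' (Nat.ordProj_dvd _ _)
      obtain ⟨c, hc⟩ := exists_conj_mem hq S.not_dvd_index ⟨_, hzqo⟩
      refine hz c (mem_of_parts fun r hr g hg hgr => ?_)
      have e : c⁻¹ * g * c ∈ zpowers z := by
        obtain ⟨i, rfl⟩ := mem_zpowers_iff.mp hg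
        rw [conj_zpow]
        simpa [mul_assoc] using zpow_mem (mem_zpowers z) i
      have her : PEl r (c⁻¹ * g * c) := by simpa using pel_conj hgr c⁻¹
      by_cases hrq : r = q
      · subst hrq
        obtain ⟨k, hk⟩ := her
        have hm : c⁻¹ * g * c ∈ zpowers zq := mem_zpowers_of_orderOf_dvd e (pow_mem (mem_zpowers z) _) (by
          rw [hzqo, hk]
          refine pow_dvd_pow r ((hr.pow_dvd_iff_le_factorization (orderOf_pos z).ne').mp ?_)
          exact hk ▸ orderOf_dvd_of_mem_zpowers e)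
        obtain ⟨i, hi⟩ := mem_zpowers_iff.mp hm
        refine mem_sup_left ?_
        have : g = (c * zq * c⁻¹) ^ i := by rw [conj_zpow, hi]; group
        rw [this, hQS]
        exact zpow_mem hc i
      · refine mem_sup_right (mem_centralizer_iff.mpr fun y _ => ?_)
        have h1 := hall r hr hrq _ e her
        have h2 : g = c * (c⁻¹ * g * c) * c⁻¹ := by group
        rw [h2]
        exact Subgroup.mem_center_iff.mp ((inferInstance : (center G).Normal).conj_mem _ h1 c) y
    · push Not at hall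
      obtain ⟨s, hs, hsq, g, hg, hgs, hgc⟩ := hall
      have hsm : s ∣ m := (hS.dvd_or_dvd hs hgs hgc).resolve_right fun h => hsq (hn_dvd s hs h)
      obtain ⟨c, hQf, hfm⟩ := hother s hs hsq g hgs hgc
      set f := c * g * c⁻¹
      have hz2 : c * z * c⁻¹ ∈ centralizer ({f} : Set G) := by
        obtain ⟨i, hi⟩ := mem_zpowers_iff.mp hg
        refine mem_cent.mpr (Commute.map (f := (MulAut.conj c).toMonoidHom) ?_)
        rw [← hi]
        exact Commute.zpow_right (Commute.refl z) i
      refine hz c ?_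
      obtain ⟨P', L', hP'C, hL'C, hP'p, hL'p, hP'mem, hL'mem, -, hP'L', -, hL'⟩ :=
        hS.split_m hs hsm (pel_conj hgs c) hfm
      have hQL' : Q ≤ L' := fun y hy =>
        hL'mem y (hQf hy) (pel_coprime_prime hq hs hsq.symm (pel_of_mem hQq hy))
      rcases hL' with hL' | ⟨q', β', hq', hn', hL'c, Q', hQ'L', hQ'q, hQ'mem, -⟩
      · exact absurd (hL' u (hQL' huQ) v (hQL' hvQ)) huv
      · have hq'q : q' = q := by
          have hb : β' ≠ 0 := fun e => by rw [e, pow_zero] at hn'; exact absurd hn' hS.n_lt.ne'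
          exact hn_dvd q' hq' (hn' ▸ dvd_pow_self q' hb)
        subst hq'q
        have hQ'Q : Q' = Q := by
          rw [hQS]
          exact S.is_maximal' hQ'q fun y hy =>
            hQ'mem y (hQL' (hSQ hy)) (pel_of_mem S.2 hy)
        refine mem_of_parts fun r hr y hy hyr => ?_
        have hyC : y ∈ centralizer ({f} : Set G) := zpowers_le.mpr hz2 hy
        by_cases hrs : r = s
        · exact mem_sup_right (mem_centralizer_iff.mpr fun w hw =>
            (hP'L' y (hP'mem y hyC (hrs ▸ hyr)) w (hQL' hw)).symm.eq)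
        · have hyL : y ∈ L' := hL'mem y hyC (pel_coprime_prime hr hs hrs hyr)
          by_cases hrq : r = q'
          · exact mem_sup_left (hQ'Q ▸ hQ'mem y hyL (hrq ▸ hyr))
          · exact mem_sup_right (mem_centralizer_iff.mpr fun w hw =>
              (hL'c y hyL (pel_coprime_prime hr hq' hrq hyr) w (hQL' hw)).symm.eq)
  have hQn : Q.Normal := by
    refine normalizer_eq_top_iff.mp (top_le_iff.mp (hTtop ▸ sup_le le_normalizer ?_))
    exact centralizer_le_normalizer _
  haveI := hQn
  have hCQi : (centralizer (Q : Set G)).index ∣ Nat.card Q := by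
    rw [← relIndex_top_right, ← hTtop, hT, relIndex_sup_right]
    exact relIndex_dvd_card _ _
  obtain ⟨k, hk⟩ := IsPGroup.iff_card.mp hQq
  obtain ⟨R⟩ : Nonempty (Sylow p G) := inferInstance
  have hRC : (R : Subgroup G) ≤ centralizer ({u} : Set G) := fun y hy => mem_cent.mpr (by
    have h1 : y ∈ centralizer (Q : Set G) := by
      rw [← QuotientGroup.eq_one_iff (N := centralizer (Q : Set G)), ← orderOf_eq_one_iff]
      obtain ⟨j, hj⟩ := pel_of_mem R.2 hy
      refine Nat.eq_one_of_dvd_coprimes (Nat.Coprime.pow j k ((Nat.coprime_primes hp hq).mpr hqp.symm))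
        (hj ▸ orderOf_map_dvd (QuotientGroup.mk' _) y) ?_
      exact (_root_.orderOf_dvd_natCard _).trans (hk ▸ (index_eq_card (centralizer (Q : Set G))) ▸ hCQi)
    exact (mem_centralizer_iff.mp h1 u huQ).symm)
  exact R.not_dvd_index ((hpm.trans (hS.m_dvd huc)).trans (index_dvd_of_le hRC))

/-- The centraliser of a `p`-element of class size `m`, `p ∣ m`, is abelian. -/
theorem cent_comm {p : ℕ} (hp : p.Prime) (hpm : p ∣ m) {x : G} (hx : PEl p x) (hxm : cs x = m) :
    ∀ y ∈ centralizer ({x} : Set G), ∀ z ∈ centralizer ({x} : Set G), Commute y z := by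
  haveI := Fact.mk hp
  obtain ⟨P, L, hPC, hLC, hPp, hLp, hPmem, hLmem, -, hPL, hdec, -⟩ := hS.split_m hp hpm hx hxm
  set C := centralizer ({x} : Set G) with hC
  have hLc : ∀ y ∈ L, ∀ z ∈ L, Commute y z := fun y hy z hz =>
    hS.compl_comm hp hpm hx hxm y (hLC hy) z (hLC hz)
      (hLp.coprime_dvd_left (orderOf_dvd_natCard L hy)) (hLp.coprime_dvd_left (orderOf_dvd_natCard L hz))
  obtain ⟨q, hq, hqn⟩ := Nat.exists_prime_and_dvd hS.n_lt.ne'
  haveI := Fact.mk hq
  have hqm := hS.not_dvd_m hq hqn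
  have hqp : q ≠ p := fun e => hqm (e ▸ hpm)
  obtain ⟨S, hSC⟩ := exists_sylow_le_cent (p := q) (H := C) (show ¬ q ∣ cs x by rw [hxm]; exact hqm)
  obtain ⟨e₀, he₀, he₀c⟩ := hS.exists_noncentral hq (hqn.mul_left m)
  obtain ⟨c, hc⟩ := exists_conj_mem hq S.not_dvd_index he₀
  set e := c * e₀ * c⁻¹
  have hec : e ∉ center G := fun h => he₀c (conj_mem_center_iff.mp h)
  have heq : PEl q e := pel_conj he₀ c
  have heL : e ∈ L := hLmem e (hSC hc) (pel_coprime_prime hq hp hqp heq)
  have hCe : centralizer ({e} : Set G) = C := by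
    refine (hS.cent_eq_of_m hxm (fun y hy => mem_cent.mpr ?_) hec).symm
    obtain ⟨a, ha, b, hb, rfl⟩ := hdec y hy
    exact ((hPL a ha e heL)).mul_left (hLc b hb e heL)
  have hPc : ∀ f ∈ P, ∀ y ∈ C, Commute f y := by
    intro f hf
    have hfe : centralizer ({f * e} : Set G) = C ⊓ centralizer ({f} : Set G) := by
      rw [cent_mul_of_coprime (hPL f hf e heL) (pel_coprime hp hq hqp.symm (pel_of_mem hPp hf) heq),
        hCe, inf_comm]
    have hle : (S : Subgroup G) ≤ C ⊓ centralizer ({f} : Set G) := fun y hy =>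
      ⟨hSC hy, mem_cent.mpr (hPL f hf y
        (hLmem y (hSC hy) (pel_coprime_prime hq hp hqp (pel_of_mem S.2 hy)))).symm⟩
    have h1 : (C ⊓ centralizer ({f} : Set G)).index = m := by
      have hd : m ∣ (C ⊓ centralizer ({f} : Set G)).index :=
        (show C.index = m from hxm) ▸ index_dvd_of_le inf_le_left
      rcases hS.cases (f * e) with h | h | h <;>
        change (centralizer ({f * e} : Set G)).index = _ at h <;> rw [hfe] at h
      · exact absurd (Nat.dvd_one.mp (h ▸ hd)) hS.m_lt.ne'
      · exact h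
      · exact absurd ((hqn.mul_left m).trans (h ▸ index_dvd_of_le hle)) S.not_dvd_index
    have h2 : C ⊓ centralizer ({f} : Set G) = C := by
      refine eq_of_le_of_card_ge inf_le_left ?_
      refine Nat.le_of_mul_le_mul_right ?_ hS.m_pos
      have e1 := C.card_mul_index
      have e2 := (C ⊓ centralizer ({f} : Set G)).card_mul_index
      rw [show C.index = m from hxm] at e1
      rw [h1] at e2
      omega
    intro y hy
    exact (mem_cent.mp (inf_eq_left.mp h2 hy)).symm
  intro y hy z hz
  obtain ⟨a, ha, b, hb, rfl⟩ := hdec y hy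
  obtain ⟨a', ha', b', hb', rfl⟩ := hdec z hz
  exact (hPc a ha _ hz).mul_left ((hPL a' ha' b hb).symm.mul_right (hLc b hb b' hb'))

/-- All non-central elements of such a centraliser have the same centraliser. -/
theorem cent_eq {p : ℕ} (hp : p.Prime) (hpm : p ∣ m) {x : G} (hx : PEl p x) (hxm : cs x = m)
    {v : G} (hv : v ∈ centralizer ({x} : Set G)) (hvc : v ∉ center G) :
    centralizer ({v} : Set G) = centralizer ({x} : Set G) :=
  (hS.cent_eq_of_m hxm (fun _ hy => mem_cent.mpr (hS.cent_comm hp hpm hx hxm _ hy v hv)) hvc).symm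

/-- In this case `m` is a prime power. -/
theorem single_of_m {p : ℕ} (hp : p.Prime) (hpm : p ∣ m) {x : G} (hx : PEl p x) (hxm : cs x = m)
    {s : ℕ} (hs : s.Prime) (hsm : s ∣ m) : s = p := by
  by_contra hne
  exact hS.multi_false hp hs (Ne.symm hne) hpm hsm (hS.cent_comm hp hpm hx hxm)
    (fun v hv _ hvc => hS.cent_eq hp hpm hx hxm hv hvc)
    (fun v hv _ hvc => hS.cent_eq hp hpm hx hxm hv hvc)
    (self_mem_cent x) hx (hS.not_center_of_m hxm)

end Sizes

end Cfsg.Lib.CoprimeMultiple
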