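import Cfsg.Agent.ClassSize.CoprimeMultiple.Basic
import Cfsg.Agent.ClassSize.CoprimeMultiple.Exact

/-!
Class sizes `1, m, m * n`: an abelian self-centralising centraliser forces `m` to be a prime power.
-/

set_option autoImplicit false
set_option linter.unusedSectionVars false
set_option linter.style.haveILetI false

namespace Cfsg.Lib.CoprimeMultiple

open Subgroup Cfsg.Lib.ClassSize Cfsg.Lib.FourSizes
open scoped IsMulCommutative

universe u

variable {G : Type u} [Group G] [Finite G]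

/-- The action of `N(K)/K` on the abelian group `K`. -/
noncomputable def act (K : Subgroup G) [IsMulCommutative K] :
    normalizer (K : Set G) ⧸ K.subgroupOf (normalizer (K : Set G)) →* MulAut K :=
  QuotientGroup.lift _ K.normalizerMonoidHom fun x hx => by
    refine MulEquiv.ext fun v => Subtype.ext ?_
    show (x : G) * (v : G) * (x : G)⁻¹ = (v : G)
    have h : (x : G) * (v : G) = (v : G) * (x : G) := congrArg Subtype.val
      (mul_comm' (⟨(x : G), mem_subgroupOf.mp hx⟩ : K) v)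
    rw [h, mul_inv_cancel_right]

theorem act_mk (K : Subgroup G) [IsMulCommutative K] (g : normalizer (K : Set G)) (v : K) :
    ((act K (QuotientGroup.mk g) v : K) : G) = (g : G) * (v : G) * (g : G)⁻¹ := rfl

theorem exact_act (K : Subgroup G) [IsMulCommutative K] {p : ℕ} (hp : p.Prime)
    (h : ∀ v ∈ K, PEl p v → v ∉ center G → centralizer ({v} : Set G) ⊓ normalizer (K : Set G) ≤ K)
    (hex : ∃ v ∈ K, PEl p v ∧ v ∉ center G) :
    Exact (act K) ((center G).subgroupOf K) p where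
  prime := hp
  fix x z hz := by
    induction x using Quotient.inductionOn' with
    | _ g =>
      refine Subtype.ext ?_
      show (g : G) * (z : G) * (g : G)⁻¹ = (z : G)
      rw [(Subgroup.mem_center_iff.mp (mem_subgroupOf.mp hz) g : (g : G) * z = z * g),
        mul_inv_cancel_right]
  exact_mem x hx v hv he := by
    induction x using Quotient.inductionOn' with
    | _ g =>
      by_contra hvz
      refine hx ((QuotientGroup.eq_one_iff g).mpr (mem_subgroupOf.mpr ?_))
      have hvp : PEl p (v : G) := by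
        obtain ⟨k, hk⟩ := hv
        exact ⟨k, by rwa [Subgroup.orderOf_coe]⟩
      have h1 : (g : G) * (v : G) * (g : G)⁻¹ = (v : G) := congrArg Subtype.val he
      exact h v v.2 hvp (fun hc => hvz (mem_subgroupOf.mpr hc))
        ⟨mem_cent.mpr (mul_inv_eq_iff_eq_mul.mp h1), g.2⟩
  ex := by
    obtain ⟨v, hv, hvp, hvc⟩ := hex
    obtain ⟨k, hk⟩ := hvp
    exact ⟨⟨v, hv⟩, ⟨k, by rwa [Subgroup.orderOf_mk]⟩, fun hc => hvc (mem_subgroupOf.mp hc)⟩

namespace Sizes

variable {m n : ℕ} (hS : Sizes G m n)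
include hS

theorem prime_dvd_card_act {r : ℕ} (hr : r.Prime) (hrm : r ∣ m) {K : Subgroup G}
    (hKc : ∀ x ∈ K, ∀ y ∈ K, Commute x y)
    (hK : ∀ v ∈ K, PEl r v → v ∉ center G → centralizer ({v} : Set G) = K)
    {a : G} (haK : a ∈ K) (ha : PEl r a) (hac : a ∉ center G) :
    r ∣ Nat.card (normalizer (K : Set G) ⧸ K.subgroupOf (normalizer (K : Set G))) := by
  haveI := Fact.mk hr
  haveI : IsMulCommutative K := ⟨⟨fun x y => Subtype.ext (hKc x x.2 y y.2).eq⟩⟩
  have hKi : r ∣ K.index := by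
    rw [← hK a haK ha hac]
    exact hrm.trans (hS.m_dvd hac)
  obtain ⟨S₀⟩ : Nonempty (Sylow r K) := inferInstance
  have haS₀ : a ∈ (S₀ : Subgroup K).map K.subtype := by
    refine ⟨⟨a, haK⟩, ?_, rfl⟩
    obtain ⟨k, hk⟩ := ha
    have hz : IsPGroup r (zpowers (⟨a, haK⟩ : K)) :=
      IsPGroup.iff_card.mpr ⟨k, by rw [Nat.card_zpowers, Subgroup.orderOf_mk, hk]⟩
    obtain ⟨Q, hQ⟩ := hz.exists_le_sylow
    haveI : (S₀ : Subgroup K).Normal := ⟨fun x hx y => by
      rwa [mul_comm' y x, mul_inv_cancel_right]⟩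
    haveI := Sylow.unique_of_normal S₀ ‹_›
    rw [Subsingleton.elim S₀ Q]
    exact hQ (mem_zpowers _)
  obtain ⟨S, hS₀⟩ := (S₀.2.map K.subtype).exists_le_sylow
  set A := (S : Subgroup G) ⊓ K with hA
  have haA : a ∈ A := ⟨hS₀ haS₀, haK⟩
  have hAS : A < (S : Subgroup G) := lt_of_le_of_ne inf_le_left fun he =>
    S.not_dvd_index (hKi.trans (index_dvd_of_le (he.ge.trans inf_le_right)))
  haveI := S.2.isNilpotent
  have hlt := Group.normalizerCondition_of_isNilpotent (G := (S : Subgroup G))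
    (A.subgroupOf (S : Subgroup G)) (lt_top_iff_ne_top.mpr fun ht => hAS.not_ge (subgroupOf_eq_top.mp ht))
  obtain ⟨g, hg, hgA⟩ := SetLike.exists_of_lt hlt
  have hgK : (g : G) ∉ K := fun h => hgA (mem_subgroupOf.mpr ⟨g.2, h⟩)
  have hga : (g : G) * a * (g : G)⁻¹ ∈ A :=
    mem_subgroupOf.mp ((mem_normalizer_iff.mp hg ⟨a, hAS.le haA⟩).mp (mem_subgroupOf.mpr haA))
  have hgN : (g : G) ∈ normalizer (K : Set G) := by
    refine mem_normalizer_fintype fun x hx => ?_
    have e1 := hK a haK ha hac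
    have e2 := hK _ hga.2 (pel_conj ha g) fun h => hac (conj_mem_center_iff.mp h)
    show (g : G) * x * (g : G)⁻¹ ∈ K
    rw [← e2]
    exact mem_cent.mpr ((mem_cent.mp (e1.symm ▸ hx : x ∈ centralizer ({a} : Set G))).map
      (MulAut.conj (g : G)).toMonoidHom)
  obtain ⟨k, hk⟩ := pel_of_mem S.2 g.2
  have hne : ((⟨g, hgN⟩ : normalizer (K : Set G)) :
      normalizer (K : Set G) ⧸ K.subgroupOf (normalizer (K : Set G))) ≠ 1 :=
    fun h => hgK (mem_subgroupOf.mp ((QuotientGroup.eq_one_iff (⟨g, hgN⟩ : normalizer (K : Set G))).mp h))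
  have hd : orderOf ((⟨g, hgN⟩ : normalizer (K : Set G)) :
      normalizer (K : Set G) ⧸ K.subgroupOf (normalizer (K : Set G))) ∣ r ^ k := by
    rw [← hk, ← Subgroup.orderOf_mk (g : G) hgN]
    exact orderOf_map_dvd (QuotientGroup.mk' _) _
  obtain ⟨j, -, hj⟩ := (Nat.dvd_prime_pow hr).mp hd
  refine dvd_trans ?_ (orderOf_dvd_natCard ((⟨g, hgN⟩ : normalizer (K : Set G)) :
      normalizer (K : Set G) ⧸ K.subgroupOf (normalizer (K : Set G))))
  rw [hj]
  exact dvd_pow_self r fun e => hne (orderOf_eq_one_iff.mp (by rw [hj, e, pow_zero]))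

/-- No abelian subgroup is the centraliser of all of its non-central elements for two primes
dividing `m`. -/
theorem multi_false {r s : ℕ} (hr : r.Prime) (hs : s.Prime) (hrs : r ≠ s) (hrm : r ∣ m) (hsm : s ∣ m)
    {K : Subgroup G} (hKc : ∀ x ∈ K, ∀ y ∈ K, Commute x y)
    (hKr : ∀ v ∈ K, PEl r v → v ∉ center G → centralizer ({v} : Set G) = K)
    (hKs : ∀ v ∈ K, PEl s v → v ∉ center G → centralizer ({v} : Set G) = K)
    {a : G} (haK : a ∈ K) (ha : PEl r a) (hac : a ∉ center G) : False := by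
  haveI : IsMulCommutative K := ⟨⟨fun x y => Subtype.ext (hKc x x.2 y y.2).eq⟩⟩
  obtain ⟨d, hdK, hdc, hd⟩ : ∃ d ∈ K, d ∉ center G ∧ PEl s d := by
    rw [← hKr a haK ha hac]
    exact hS.exists_in_cent hs hsm hac
  refine false_of_two_primes
    (exact_act K hr (fun v hv hvp hvc => by rw [hKr v hv hvp hvc]; exact inf_le_left) ⟨a, haK, ha, hac⟩)
    (exact_act K hs (fun v hv hvp hvc => by rw [hKs v hv hvp hvc]; exact inf_le_left) ⟨d, hdK, hd, hdc⟩)
    hrs (hS.prime_dvd_card_act hr hrm hKc hKr haK ha hac)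
    (hS.prime_dvd_card_act hs hsm hKc hKs hdK hd hdc)

end Sizes

end Cfsg.Lib.CoprimeMultiple
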